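import Groth.Prelude.Def_FEt
import Groth.Agent.FEtLib.Restrict
import Groth.Agent.BoundaryConn.Main
import Groth.Agent.RelAssLib.Generic
import Groth.Agent.S5153
import Groth.Agent.S1477
import Groth.Agent.S7552
import Groth.Agent.FSParaLib.Main
import Groth.Agent.QGorLib.Depth

/-!
# Lefschetz connectedness for finite covers of a neighbourhood of an ample divisor

The components of a finite cover meet the divisor in connected sets, by the connectedness of the
complement of an affine open of an integral proper scheme of dimension at least two; Hartshorne's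
connectedness glues the components.
-/

set_option autoImplicit false
set_option backward.isDefEq.respectTransparency false
set_option linter.style.haveILetI false

universe u
open CategoryTheory CategoryTheory.Limits AlgebraicGeometry TopologicalSpace

noncomputable section

namespace Groth.Agent.LeffEtLib

theorem two_le_of_one_lt {a : WithBot ℕ∞} (h : 1 < a) : 2 ≤ a := by
  induction a using WithBot.recBotCoe with
  | bot => exact absurd h not_lt_bot
  | coe a =>
    refine WithBot.coe_le_coe.2 (le_of_eq_of_le one_add_one_eq_two.symm ?_)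
    exact Order.add_one_le_of_lt (WithBot.coe_lt_coe.1 h)

variable {k : Type u} [Field k] {X : Scheme.{u}} (f : X ⟶ Spec (CommRingCat.of k)) [IsProper f]
  {G : X.Opens} (hG : IsAffineOpen G)

include f hG in
/-- A closed set inside an affine open of a proper scheme consists of closed points. -/
theorem isClosed_singleton_of_subset {Z : Set X} (hZ : IsClosed Z) (hsub : Z ⊆ (G : Set X)) {x : X} (hx : x ∈ Z) :
    IsClosed ({x} : Set X) := by
  let J := Scheme.IdealSheafData.vanishingIdeal ⟨Z, hZ⟩
  have hJ : Set.range J.subschemeι = Z := by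
    rw [Scheme.IdealSheafData.range_subschemeι, Scheme.IdealSheafData.coe_support_vanishingIdeal]
    rfl
  have hs : Set.range J.subschemeι ⊆ Set.range G.ι := by rw [Scheme.Opens.range_ι, hJ]; exact hsub
  let g := IsOpenImmersion.lift G.ι J.subschemeι hs
  have hg : g ≫ G.ι = J.subschemeι := IsOpenImmersion.lift_fac _ _ _
  haveI : IsClosedImmersion (g ≫ G.ι) := hg ▸ inferInstance
  haveI : IsClosedImmersion g := IsClosedImmersion.of_comp g G.ι
  haveI : IsAffine G.toScheme := hG
  haveI : IsAffine J.subscheme := isAffine_of_isAffineHom g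
  haveI : IsFinite (J.subschemeι ≫ f) := IsFinite.iff_isProper_and_isAffineHom.2 ⟨inferInstance, inferInstance⟩
  haveI : IsArtinianRing (CommRingCat.of k) := inferInstanceAs (IsArtinianRing k)
  haveI : IsLocallyArtinian (Spec (CommRingCat.of k)) := Scheme.isLocallyArtinianScheme_Spec.2 inferInstance
  haveI : IsLocallyArtinian J.subscheme := IsLocallyArtinian.of_locallyQuasiFinite (J.subschemeι ≫ f)
  obtain ⟨z, rfl⟩ : x ∈ Set.range J.subschemeι := hJ ▸ hx
  rw [← Set.image_singleton]
  exact J.subschemeι.isClosedEmbedding.isClosedMap _ (isClosed_discrete _)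

include f hG in
/-- An irreducible component of a finite cover of a neighbourhood of the complement of the affine open
meets that complement in a connected set, if its image has dimension at least two. -/
theorem isConnected_component_inter {V : X.Opens} (hV : ((G : Set X))ᶜ ⊆ (V : Set X)) {W : Scheme.{u}}
    (π : W ⟶ V.toScheme) [IsFinite π] (ξ : W) (hξ : (π ≫ V.ι) ξ ∈ G)
    (hdim : (2 : WithBot ℕ∞) ≤ topologicalKrullDim ↥(closure ({(π ≫ V.ι) ξ} : Set X))) :
    _root_.IsConnected (closure ({ξ} : Set W) ∩ (π ≫ V.ι) ⁻¹' ((G : Set X))ᶜ) := by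
  haveI : IsLocallyNoetherian X := LocallyOfFiniteType.isLocallyNoetherian f
  haveI : CompactSpace X := QuasiCompact.compactSpace_of_compactSpace f
  haveI : IsNoetherian X := ⟨⟩
  let g := π ≫ V.ι
  haveI : LocallyOfFinitePresentation g := LocallyOfFinitePresentation.iff_locallyOfFiniteType.mpr inferInstance
  obtain ⟨T, j, p, hj, -, hp, -, hjp⟩ := S1477.result g
  let T' := Scheme.IdealSheafData.vanishingIdeal (Closeds.closure ({j ξ} : Set T))
  haveI : IsIntegral T'.subscheme := RelAssLib.isIntegral_vanishingIdeal_closure (j ξ)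
  let q : T'.subscheme ⟶ X := T'.subschemeι ≫ p
  have hT' : Set.range T'.subschemeι = closure ({j ξ} : Set T) := by
    rw [Scheme.IdealSheafData.range_subschemeι, Scheme.IdealSheafData.coe_support_vanishingIdeal]
    rfl
  have hpj : ∀ w, p (j w) = g w := fun w => by rw [← Scheme.Hom.comp_apply, hjp]
  -- the image is the closure of the image point
  have hq : Set.range q = closure ({g ξ} : Set X) := by
    apply subset_antisymm
    · rintro _ ⟨t, rfl⟩
      have ht : T'.subschemeι t ∈ closure ({j ξ} : Set T) := hT'.subset ⟨t, rfl⟩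
      have h := image_closure_subset_closure_image p.continuous ⟨_, ht, rfl⟩
      rwa [Set.image_singleton, hpj] at h
    · refine closure_minimal (Set.singleton_subset_iff.2 ?_) q.isClosedMap.isClosed_range
      obtain ⟨t, ht⟩ : j ξ ∈ Set.range T'.subschemeι := hT'.symm.subset (subset_closure rfl)
      exact ⟨t, by rw [Scheme.Hom.comp_apply, ht, hpj]⟩
  have hdimT : (2 : WithBot ℕ∞) ≤ topologicalKrullDim T'.subscheme := by
    haveI : QuasiSober ↥(closure ({g ξ} : Set X)) :=
      (IsClosed.isClosedEmbedding_subtypeVal isClosed_closure).quasiSober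
    let q' : T'.subscheme → ↥(closure ({g ξ} : Set X)) := fun t => ⟨q t, hq.subset ⟨t, rfl⟩⟩
    have hc : Continuous q' := q.continuous.subtype_mk _
    have hcl : IsClosedMap q' := fun S hS => by
      have : q' '' S = Subtype.val ⁻¹' (q '' S) := by
        ext y
        exact ⟨fun ⟨t, ht, e⟩ => ⟨t, ht, congrArg Subtype.val e⟩, fun ⟨t, ht, e⟩ => ⟨t, ht, Subtype.ext e⟩⟩
      rw [this]
      exact (q.isClosedMap _ hS).preimage continuous_subtype_val
    refine hdim.trans (S7552.result q' hc (fun y => ?_) (Or.inl hcl.specializingMap))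
    obtain ⟨t, ht⟩ : (y : X) ∈ Set.range q := hq.symm.subset y.2
    exact ⟨t, Subtype.ext ht⟩
  have hne : ((q ⁻¹ᵁ G : T'.subscheme.Opens) : Set T'.subscheme).Nonempty := by
    obtain ⟨t, ht⟩ : g ξ ∈ Set.range q := hq.symm.subset (subset_closure rfl)
    exact ⟨t, show q t ∈ G from ht ▸ hξ⟩
  have hconn := BoundaryConn.isConnected_compl k (q ≫ f) hdimT (q ⁻¹ᵁ G) (hG.preimage q) hne
  -- over `V` the cover is closed in the extension
  let TV := p ⁻¹ᵁ V
  have hjV : Set.range j ⊆ Set.range TV.ι := by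
    rintro _ ⟨w, rfl⟩
    rw [Scheme.Opens.range_ι]
    show p (j w) ∈ V
    rw [hpj]
    exact (π w).2
  let j' := IsOpenImmersion.lift TV.ι j hjV
  have hj' : j' ≫ TV.ι = j := IsOpenImmersion.lift_fac _ _ _
  haveI : IsFinite (j' ≫ p ∣_ V) := by
    have : j' ≫ p ∣_ V = π := by
      rw [← cancel_mono V.ι, Category.assoc, morphismRestrict_ι, ← Category.assoc, hj', hjp]
    rw [this]; infer_instance
  haveI : IsFinite j' := IsFinite.of_comp j' (p ∣_ V)
  have key : ∀ t ∈ closure ({j ξ} : Set T), p t ∈ V → ∃ w ∈ closure ({ξ} : Set W), j w = t := by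
    intro t ht htV
    let t' : TV.toScheme := ⟨t, htV⟩
    have hmem : (j' ξ : TV.toScheme) ⤳ t' := by
      rw [TV.ι.isEmbedding.isInducing.specializes_iff.symm]
      rw [← Scheme.Hom.comp_apply, hj']
      exact specializes_iff_mem_closure.2 ht
    have h1 : t' ∈ closure (j' '' ({ξ} : Set W)) := by
      rw [Set.image_singleton]
      exact hmem.mem_closure
    rw [j'.isClosedMap.closure_image_eq_of_continuous j'.continuous] at h1
    obtain ⟨w, hw, hwt⟩ := h1
    refine ⟨w, hw, ?_⟩
    rw [← hj', Scheme.Hom.comp_apply, hwt]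
    rfl
  have himg : j '' (closure ({ξ} : Set W) ∩ g ⁻¹' ((G : Set X))ᶜ) =
      T'.subschemeι '' (((q ⁻¹ᵁ G : T'.subscheme.Opens) : Set T'.subscheme))ᶜ := by
    ext t
    constructor
    · rintro ⟨w, ⟨hw, hwG⟩, rfl⟩
      have h := image_closure_subset_closure_image j.continuous ⟨_, hw, rfl⟩
      rw [Set.image_singleton, ← hT'] at h
      obtain ⟨t, ht⟩ := h
      refine ⟨t, fun htG => hwG ?_, ht⟩
      have : q t ∈ G := htG
      rwa [Scheme.Hom.comp_apply, ht, hpj] at this
    · rintro ⟨t, htG, rfl⟩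
      have htV : p (T'.subschemeι t) ∈ V := hV fun h => htG (show q t ∈ G from h)
      obtain ⟨w, hw, hwt⟩ := key _ (hT'.subset ⟨t, rfl⟩) htV
      refine ⟨w, ⟨hw, fun h => htG ?_⟩, hwt⟩
      show q t ∈ G
      rw [Scheme.Hom.comp_apply, ← hwt, hpj]
      exact h
  have h2 := hconn.image _ T'.subschemeι.continuous.continuousOn
  rw [← himg] at h2
  exact ⟨Set.image_nonempty.1 h2.1, j.isOpenEmbedding.isInducing.isPreconnected_image.1 h2.2⟩

include f hG in
/-- Depth plus dimension at least two outside the divisor forces the components to meet it connectedly. -/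
theorem isConnected_inter_of_depth {V : X.Opens} (hV : ((G : Set X))ᶜ ⊆ (V : Set X)) {W : Scheme.{u}}
    (π : W ⟶ V.toScheme) [IsFinite π] [Flat π]
    (hd : ∀ x ∈ G, (1 : WithBot ℕ∞) < (LocCoh.depth (X.presheaf.stalk x) (X.presheaf.stalk x) : WithBot ℕ∞) +
      topologicalKrullDim ↥(closure ({x} : Set X)))
    {Z : Set W} (hZ : Z ∈ irreducibleComponents W) :
    _root_.IsConnected (Z ∩ (π ≫ V.ι) ⁻¹' ((G : Set X))ᶜ) := by
  haveI : IsLocallyNoetherian X := LocallyOfFiniteType.isLocallyNoetherian f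
  have hZc : IsClosed Z := isClosed_of_mem_irreducibleComponents Z hZ
  let ξ := hZ.1.genericPoint
  have hgen : closure ({ξ} : Set W) = Z := by
    have := hZ.1.isGenericPoint_genericPoint_closure
    rw [hZc.closure_eq] at this
    exact this
  by_cases hξ : (π ≫ V.ι) ξ ∈ G
  · rw [← hgen]
    refine isConnected_component_inter f hG hV π ξ hξ ?_
    have hmax : IsMax ((π ≫ V.ι) ξ) := fun y hy => by
      have hy' : y ⤳ (π ≫ V.ι) ξ := hy
      have hyV : y ∈ V := hy'.mem_open V.isOpen (π ξ).2
      let y' : V.toScheme := ⟨y, hyV⟩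
      have hy'' : y' ⤳ π ξ := by
        rw [V.ι.isEmbedding.isInducing.specializes_iff.symm]
        exact hy'
      obtain ⟨z, hz, hzy⟩ := Flat.generalizingMap π hy''
      have hz' : Z ⊆ closure ({z} : Set W) :=
        hgen ▸ closure_minimal (Set.singleton_subset_iff.2 hz.mem_closure) isClosed_closure
      have hz'' : ξ ⤳ z := specializes_iff_mem_closure.2
        (hgen.symm ▸ hZ.2 isIrreducible_singleton.closure hz' (subset_closure rfl))
      show (π ≫ V.ι) ξ ⤳ y
      have e : V.ι (π z) = y := by rw [hzy]; rfl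
      rw [← e, Scheme.Hom.comp_apply]
      exact (hz''.map π.continuous).map V.ι.continuous
    have h0 : LocCoh.depth (X.presheaf.stalk ((π ≫ V.ι) ξ)) (X.presheaf.stalk ((π ≫ V.ι) ξ)) = 0 := by
      have h1 := QGorLib.depth_le_supportDim (R := X.presheaf.stalk ((π ≫ V.ι) ξ)) (X.presheaf.stalk ((π ≫ V.ι) ξ))
      rw [Module.supportDim_self_eq_ringKrullDim, ringKrullDim_stalk_eq_coheight,
        Order.coheight_eq_zero.2 hmax] at h1
      exact le_antisymm (WithBot.coe_le_coe.1 h1) bot_le
    have h := hd _ hξ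
    rw [h0] at h
    have h' : (1 : WithBot ℕ∞) < topologicalKrullDim ↥(closure ({(π ≫ V.ι) ξ} : Set X)) := by simpa using h
    exact two_le_of_one_lt h'
  · have hsub : Z ⊆ (π ≫ V.ι) ⁻¹' ((G : Set X))ᶜ :=
      hgen ▸ closure_minimal (Set.singleton_subset_iff.2 hξ) (G.isOpen.isClosed_compl.preimage (π ≫ V.ι).continuous)
    rw [Set.inter_eq_left.2 hsub]
    exact ⟨hZ.1.1, hZ.1.2.isPreconnected⟩

include f hG in
/-- The points of a closed set over the affine open, closed in the neighbourhood, lie over closed points. -/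
theorem isClosed_singleton_image {V : X.Opens} (hV : ((G : Set X))ᶜ ⊆ (V : Set X)) {W : Scheme.{u}}
    (π : W ⟶ V.toScheme) [IsFinite π] {S : Set W} (hS : IsClosed S) (hSG : S ⊆ (π ≫ V.ι) ⁻¹' (G : Set X))
    {w : W} (hw : w ∈ S) : IsClosed ({(π ≫ V.ι) w} : Set X) := by
  refine isClosed_singleton_of_subset f hG (isClosed_closure (s := {(π ≫ V.ι) w})) (fun x hx => ?_) (subset_closure rfl)
  by_contra hxG
  let x' : V.toScheme := ⟨x, hV hxG⟩
  have hs : π w ⤳ x' := by
    rw [V.ι.isEmbedding.isInducing.specializes_iff.symm]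
    exact specializes_iff_mem_closure.2 hx
  obtain ⟨s, hs', hsx⟩ : x' ∈ π '' S :=
    closure_minimal (Set.singleton_subset_iff.2 (Set.mem_image_of_mem π hw)) (π.isClosedMap S hS) hs.mem_closure
  have := hSG hs'
  rw [Set.mem_preimage, Scheme.Hom.comp_apply, hsx] at this
  exact hxG this

include f hG in
/-- Clopens descend from the complement of the affine open to any neighbourhood of it. -/
theorem exists_clopen_of_clopen {V : X.Opens} (hV : ((G : Set X))ᶜ ⊆ (V : Set X)) {W : Scheme.{u}}
    (π : W ⟶ V.toScheme) [IsFinite π] [Flat π]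
    (hd : ∀ x ∈ G, (1 : WithBot ℕ∞) < (LocCoh.depth (X.presheaf.stalk x) (X.presheaf.stalk x) : WithBot ℕ∞) +
      topologicalKrullDim ↥(closure ({x} : Set X)))
    {C C' : Set W} (hC : IsClosed C) (hC' : IsClosed C') (hdisj : Disjoint C C')
    (hu : C ∪ C' = (π ≫ V.ι) ⁻¹' ((G : Set X))ᶜ) :
    ∃ D : Set W, IsClopen D ∧ D ∩ (π ≫ V.ι) ⁻¹' ((G : Set X))ᶜ = C := by
  haveI : IsLocallyNoetherian X := LocallyOfFiniteType.isLocallyNoetherian f
  haveI : CompactSpace X := QuasiCompact.compactSpace_of_compactSpace f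
  haveI : IsNoetherian X := ⟨⟩
  haveI : IsLocallyNoetherian W := LocallyOfFiniteType.isLocallyNoetherian (π ≫ V.ι)
  haveI : CompactSpace W := QuasiCompact.compactSpace_of_compactSpace (π ≫ V.ι)
  haveI : IsNoetherian W := ⟨⟩
  haveI := FEtLib.finite_connectedComponents (T := W)
  have hfin := TopologicalSpace.NoetherianSpace.finite_irreducibleComponents (α := W)
  let A : Set W := ⋃ Z ∈ {Z ∈ irreducibleComponents W | (Z ∩ C).Nonempty}, Z
  let B : Set W := ⋃ Z ∈ {Z ∈ irreducibleComponents W | ¬ (Z ∩ C).Nonempty}, Z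
  have hA : IsClosed A := (hfin.subset (fun Z h => h.1)).isClosed_biUnion
    fun Z h => isClosed_of_mem_irreducibleComponents Z h.1
  have hB : IsClosed B := (hfin.subset (fun Z h => h.1)).isClosed_biUnion
    fun Z h => isClosed_of_mem_irreducibleComponents Z h.1
  have hAB : ∀ z, z ∈ A ∨ z ∈ B := fun z => by
    have hz := irreducibleComponent_mem_irreducibleComponents z
    by_cases h : (irreducibleComponent z ∩ C).Nonempty
    · exact Or.inl (Set.mem_biUnion ⟨hz, h⟩ mem_irreducibleComponent)
    · exact Or.inr (Set.mem_biUnion ⟨hz, h⟩ mem_irreducibleComponent)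
  have hAC : ∀ z ∈ A, z ∈ (π ≫ V.ι) ⁻¹' ((G : Set X))ᶜ → z ∈ C := by
    intro z hz hzY
    obtain ⟨Z, ⟨hZ, ⟨c, hcZ, hcC⟩⟩, hzZ⟩ := Set.mem_iUnion₂.1 hz
    have hconn := (isConnected_inter_of_depth f hG hV π hd hZ).2
    by_contra hzC
    have hzC' : z ∈ C' := by
      rcases hu.symm.subset hzY with h | h
      · exact absurd h hzC
      · exact h
    obtain ⟨y, -, hy1, hy2⟩ := (isPreconnected_closed_iff.1 hconn) C C' hC hC' (fun y hy => hu.symm.subset hy.2)
      ⟨c, ⟨hcZ, hu.subset (Or.inl hcC)⟩, hcC⟩ ⟨z, ⟨hzZ, hzY⟩, hzC'⟩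
    exact Set.disjoint_left.1 hdisj hy1 hy2
  have hBC : ∀ z ∈ B, z ∉ C := fun z hz hzC => by
    obtain ⟨Z, ⟨-, hn⟩, hzZ⟩ := Set.mem_iUnion₂.1 hz
    exact hn ⟨z, hzZ, hzC⟩
  have hS : A ∩ B ⊆ (π ≫ V.ι) ⁻¹' (G : Set X) := fun z hz => by
    by_contra h
    exact hBC z hz.2 (hAC z hz.1 h)
  let U : W.Opens := ⟨(A ∩ B)ᶜ, (hA.inter hB).isOpen_compl⟩
  have hdU : ∀ z : W, z ∉ (U : Set W) → (2 : ℕ∞) ≤ LocCoh.depth (W.presheaf.stalk z) (W.presheaf.stalk z) := by
    intro z hz
    have hz' : z ∈ A ∩ B := not_not.1 hz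
    have hcl := isClosed_singleton_image f hG hV π (hA.inter hB) hS hz'
    have h := hd _ (hS hz')
    have hdim0 : topologicalKrullDim ↥(closure ({(π ≫ V.ι) z} : Set X)) ≤ 0 := by
      haveI : Subsingleton ↥(closure ({(π ≫ V.ι) z} : Set X)) := by
        rw [hcl.closure_eq]; infer_instance
      exact topologicalKrullDim_zero_of_discreteTopology _
    have h2 : (2 : ℕ∞) ≤ LocCoh.depth (X.presheaf.stalk ((π ≫ V.ι) z)) (X.presheaf.stalk ((π ≫ V.ι) z)) := by
      have h' := h.trans_le (add_le_add_right hdim0 _)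
      rw [add_zero] at h'
      exact WithBot.coe_le_coe.1 (two_le_of_one_lt h')
    let g := π ≫ V.ι
    haveI : IsLocallyNoetherian V.toScheme := inferInstance
    letI : Algebra (X.presheaf.stalk (g z)) (W.presheaf.stalk z) := (g.stalkMap z).hom.toAlgebra
    haveI : IsLocalHom (algebraMap (X.presheaf.stalk (g z)) (W.presheaf.stalk z)) :=
      inferInstanceAs (IsLocalHom (g.stalkMap z).hom)
    haveI : Module.Flat (X.presheaf.stalk (g z)) (W.presheaf.stalk z) := Flat.stalkMap g z
    exact h2.trans FSParaLib.depth_le_of_flat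
  obtain ⟨hinj, -⟩ := S5153.result W U hdU
  let val : U → W := fun z => (z : W)
  let m := (continuous_subtype_val : Continuous val).connectedComponentsMap
  let A' : Set U := val ⁻¹' A
  have hA' : IsClopen A' := by
    refine ⟨hA.preimage continuous_subtype_val, ?_⟩
    have : A' = (val ⁻¹' B)ᶜ := by
      ext z
      exact ⟨fun h h' => z.2 ⟨h, h'⟩, fun h => (hAB z.1).resolve_right h⟩
    rw [this]
    exact (hB.preimage continuous_subtype_val).isOpen_compl
  let D : Set W := ConnectedComponents.mk ⁻¹' (m '' (ConnectedComponents.mk '' A'))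
  refine ⟨D, IsClopen.preimage (isClopen_discrete _) ConnectedComponents.continuous_coe, ?_⟩
  have hD : ∀ z : U, (z : W) ∈ D ↔ (z : W) ∈ A := by
    intro z
    constructor
    · rintro ⟨_, ⟨a, ha, rfl⟩, h⟩
      have e : ConnectedComponents.mk a = ConnectedComponents.mk z :=
        hinj (h.trans (Continuous.connectedComponentsMap_mk continuous_subtype_val z).symm)
      exact hA'.connectedComponent_subset ha (ConnectedComponents.coe_eq_coe'.1 e.symm)
    · exact fun h => ⟨_, ⟨z, h, rfl⟩, Continuous.connectedComponentsMap_mk continuous_subtype_val z⟩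
  ext z
  constructor
  · rintro ⟨hzD, hzY⟩
    exact hAC z ((hD ⟨z, fun h => hzY (hS h)⟩).1 hzD) hzY
  · intro hzC
    have hzY : z ∈ (π ≫ V.ι) ⁻¹' ((G : Set X))ᶜ := hu.subset (Or.inl hzC)
    exact ⟨(hD ⟨z, fun h => hzY (hS h)⟩).2 ((hAB z).resolve_right fun h => hBC z h hzC), hzY⟩

include f hG in
/-- Restriction from a neighbourhood of the complement of the affine open is fully faithful. -/
theorem fullyFaithful_restrict_of_depth {V : X.Opens} (hV : ((G : Set X))ᶜ ⊆ (V : Set X)) {P : Scheme.{u}}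
    (r : P ⟶ V.toScheme) [IsClosedImmersion r] (hr : Set.range r = V.ι ⁻¹' ((G : Set X))ᶜ)
    (hd : ∀ x ∈ G, (1 : WithBot ℕ∞) < (LocCoh.depth (X.presheaf.stalk x) (X.presheaf.stalk x) : WithBot ℕ∞) +
      topologicalKrullDim ↥(closure ({x} : Set X))) :
    (FEt.restrict r).Full ∧ (FEt.restrict r).Faithful := by
  have hm : FEtLib.MeetsClopens r := by
    intro U hU hne
    obtain ⟨v, hv⟩ := hne
    have hZ := irreducibleComponent_mem_irreducibleComponents v
    have hsub : irreducibleComponent v ⊆ U :=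
      (isIrreducible_irreducibleComponent.isConnected.isPreconnected.subset_isClopen hU ⟨v, mem_irreducibleComponent, hv⟩)
    haveI : IsLocallyNoetherian X := LocallyOfFiniteType.isLocallyNoetherian f
    obtain ⟨y, hy1, hy2⟩ := (isConnected_inter_of_depth f hG hV (𝟙 V.toScheme) hd hZ).1
    obtain ⟨p, hp⟩ : y ∈ Set.range r := hr.symm.subset hy2
    exact ⟨p, hp ▸ hsub hy1⟩
  refine ⟨FEtLib.full r hm ?_, FEtLib.faithful r hm⟩
  intro W C0 hC0
  haveI : IsFinite W.hom := W.prop.1
  haveI : Etale W.hom := W.prop.2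
  let b := FEtLib.bcFst r W
  haveI : IsClosedImmersion b := MorphismProperty.pullback_fst (P := @IsClosedImmersion) _ _ inferInstance
  have hb : Set.range b = (W.hom ≫ V.ι) ⁻¹' ((G : Set X))ᶜ := by
    have h1 : Set.range b = W.hom ⁻¹' Set.range r := Scheme.Pullback.range_fst W.hom r
    rw [h1, hr]
    rfl
  obtain ⟨D, hD, hDC⟩ := exists_clopen_of_clopen f hG hV W.hom hd
    (b.isClosedMap C0 hC0.1) (b.isClosedMap C0ᶜ hC0.2.isClosed_compl)
    ((Set.disjoint_image_iff b.isClosedEmbedding.injective).2 disjoint_compl_right)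
    (by rw [← Set.image_union, Set.union_compl_self, Set.image_univ, hb])
  refine ⟨D, hD, ?_⟩
  ext z
  constructor
  · intro hz
    have : b z ∈ b '' C0 := hDC ▸ ⟨hz, hb.subset ⟨z, rfl⟩⟩
    obtain ⟨z', hz', e⟩ := this
    exact b.isClosedEmbedding.injective e ▸ hz'
  · intro hz
    have : b z ∈ b '' C0 := ⟨z, hz, rfl⟩
    rw [← hDC] at this
    exact this.1

end Groth.Agent.LeffEtLib
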