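import Groth.Agent.DCohMore.DualFlf
import Groth.Agent.LefEtaleLib.Tensor
import Groth.Agent.ModTensor.Sheaf
import Groth.Agent.ParaFLib.Stalk

/-!
# Evaluation against the dual of a finite locally free module
-/

set_option autoImplicit false
set_option backward.isDefEq.respectTransparency false
set_option linter.style.haveILetI false

universe u

open CategoryTheory CategoryTheory.Limits AlgebraicGeometry TopologicalSpace Opposite MonoidalCategory
open Groth.Agent.PullbackMod Groth.Agent.DCohLib Groth.Agent.StalkHomLib Groth.Agent.LocFreeHomLib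
open scoped TensorProduct

noncomputable section

namespace Groth.Agent.LeffEtLib

variable {X : Scheme.{u}}

local instance hasHF (M : X.Modules) : ModSite.HasSheafHom (O := X.sheaf) M :=
  ModTensor.hasSheafHom (O := X.sheaf) M

/-- Evaluation, bilinear on sections. -/
def evBilin (E : X.Modules) : LefEtaleLib.Bilin E (dualE E) (Coh.structureModule X) where
  b U := AddMonoidHom.mk' (fun e => AddMonoidHom.mk' (fun φ => (ev E _).app U (pairS (dualE E) E φ e))
      (fun φ φ' => by rw [pairS_add_left, map_add]))
    (fun e e' => AddMonoidHom.ext fun φ => by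
      show (ev E _).app U (pairS (dualE E) E φ (e + e')) = _
      rw [pairS_add_right, map_add]
      rfl)
  smul_left U r e φ := by
    show (ev E _).app U (pairS (dualE E) E φ (r • e)) = _
    rw [pairS_smul_right, Scheme.Modules.Hom.app_smul]
    rfl
  smul_right U r e φ := by
    show (ev E _).app U (pairS (dualE E) E (r • φ) e) = _
    rw [pairS_smul_left, Scheme.Modules.Hom.app_smul]
    rfl
  res {U V} i e φ := by
    show (ev E _).app V (pairS (dualE E) E _ _) = (Coh.structureModule X).presheaf.map i.op _
    rw [show i = homOfLE (leOfHom i) from Subsingleton.elim _ _, ← res_pairS (leOfHom i)]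
    exact app_natural (ev E _) (leOfHom i) _

/-- Evaluation, with the module on the left. -/
def evSwap (E : X.Modules) : tmod E (dualE E) ⟶ Coh.structureModule X := (evBilin E).lift

theorem evSwap_stalk (E : X.Modules) (x : X) (e : E.presheaf.stalk x) (φ : (dualE E).presheaf.stalk x) :
    stalkLin (evSwap E) x (stalkTensor x E (dualE E) (e ⊗ₜ φ)) = theta E (Coh.structureModule X) x φ e := by
  obtain ⟨U, hx, e, φ, rfl, rfl⟩ := exists_common_germ x e φ
  rw [theta_germ]
  show stalkLin _ x (stalkTensorHom x _) = _
  rw [stalkTensorHom_tmul]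
  exact (stalkLin_germ _ _ _ _).trans (congrArg _ ((evBilin E).lift_pairS U e φ))

/-- The map to the bidual. -/
def bidual (E : X.Modules) : E ⟶ dualE (dualE E) :=
  (ModSite.sheafHomAdj (O := X.sheaf) (dualE E)).homEquiv E (Coh.structureModule X) (evSwap E)

/-- Functionals at a point as duals. -/
def dualStalk {E : X.Modules} (hE : FlatMod.IsFinLocFree E) (x : X) :
    (dualE E).presheaf.stalk x ≃ₗ[X.presheaf.stalk x] Module.Dual (X.presheaf.stalk x) (E.presheaf.stalk x) :=
  (LinearEquiv.ofBijective _ (theta_bijective_flf E hE (Coh.structureModule X) x)).trans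
    (LinearEquiv.congrRight (LinearEquiv.ofBijective (LinearMap.toSpanSingleton (X.presheaf.stalk x) _ (one' x))
      (ParaFLib.bijective_oneG x)).symm)

theorem dualStalk_spec {E : X.Modules} (hE : FlatMod.IsFinLocFree E) (x : X) (φ : (dualE E).presheaf.stalk x)
    (e : E.presheaf.stalk x) : dualStalk hE x φ e • one' x = theta E (Coh.structureModule X) x φ e :=
  (LinearEquiv.ofBijective (LinearMap.toSpanSingleton (X.presheaf.stalk x) _ (one' x))
      (ParaFLib.bijective_oneG x)).apply_symm_apply _

theorem isIso_bidual {E : X.Modules} (hE : FlatMod.IsFinLocFree E) : IsIso (bidual E) := by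
  refine (isIso_iff_stalk _).2 fun x => ?_
  let R := X.presheaf.stalk x
  obtain ⟨hfree, hfin⟩ := free_finite_stalk_of_flf hE x
  let e₁ := dualStalk hE x
  let e₂ := dualStalk (DCohMore.isFinLocFree_dual E hE) x
  have key : ∀ (b : E.presheaf.stalk x) (d : (dualE E).presheaf.stalk x),
      e₂ (stalkLin (bidual E) x b) d = e₁ d b := by
    intro b d
    apply (ParaFLib.bijective_oneG x).1
    show e₂ _ d • one' x = e₁ d b • one' x
    rw [dualStalk_spec, dualStalk_spec, theta_transpose, ← evSwap_stalk]
    exact congrArg (fun g : tmod E (dualE E) ⟶ Coh.structureModule X => stalkLin g x _)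
      (Equiv.symm_apply_apply _ _)
  let e : E.presheaf.stalk x ≃ₗ[R] (dualE (dualE E)).presheaf.stalk x :=
    (Module.evalEquiv R (E.presheaf.stalk x)).trans (e₁.dualMap.trans e₂.symm)
  have he : ∀ b, stalkLin (bidual E) x b = e b := fun b => by
    refine e₂.injective (LinearMap.ext fun d => ?_)
    rw [key]
    simp [e]
    rfl
  rw [show ⇑(stalkLin (bidual E) x) = ⇑e from funext he]
  exact e.bijective

/-- An element all of whose coordinates lie in an ideal lies in its multiple of the whole. -/
theorem mem_smul_of_theta {E : X.Modules} (hE : FlatMod.IsFinLocFree E) (x : X) (J : Ideal (X.presheaf.stalk x))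
    (e : E.presheaf.stalk x) (h : ∀ φ, ∃ r ∈ J, theta E (Coh.structureModule X) x φ e = r • one' x) :
    e ∈ J • (⊤ : Submodule (X.presheaf.stalk x) (E.presheaf.stalk x)) := by
  classical
  obtain ⟨hfree, hfin⟩ := free_finite_stalk_of_flf hE x
  let b := Module.Free.chooseBasis (X.presheaf.stalk x) (E.presheaf.stalk x)
  rw [← b.sum_repr e]
  refine Submodule.sum_mem _ fun i _ => Submodule.smul_mem_smul ?_ trivial
  obtain ⟨r, hr, hr'⟩ := h ((dualStalk hE x).symm (b.coord i))
  rw [← dualStalk_spec hE, LinearEquiv.apply_symm_apply] at hr'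
  have : b.repr e i = r := (ParaFLib.bijective_oneG x).1 hr'
  exact this ▸ hr

end Groth.Agent.LeffEtLib
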