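import Groth.Agent.LeffEtLib.Algebraize
import Groth.Agent.LefEtaleLib.Bilinear
import Groth.Agent.BCLib.SteinFlat

/-!
# The algebra structure of an algebraized module
-/

set_option autoImplicit false
set_option backward.isDefEq.respectTransparency false
set_option linter.style.haveILetI false
set_option maxHeartbeats 1000000

universe u

open CategoryTheory CategoryTheory.Limits AlgebraicGeometry TopologicalSpace Opposite
open Groth.Agent.PullbackMod Groth.Agent.DCohLib Groth.Agent.LefEtaleLib Groth.Agent.LocFreeHomLib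
open scoped TensorProduct

noncomputable section

namespace Groth.Agent.LeffEtLib

theorem secMap_mulA {W X T : Scheme.{u}} {π : W ⟶ X} {g : T ⟶ X} (s : T ⟶ W) (h : s ≫ π = g) (V : X.Opens)
    (a b : Γ(pushO π, V)) :
    (secMap s h).app V (mulA π V a b) = mulA g V ((secMap s h).app V a) ((secMap s h).app V b) := by
  rw [secMap_app, secMap_app, secMap_app]
  exact (congrArg _ (map_mul (s.app (π ⁻¹ᵁ V)).hom (show Γ(W, π ⁻¹ᵁ V) from a) b)).trans
    (map_mul (T.presheaf.map (eqToHom (by subst h; rfl : g ⁻¹ᵁ V = s ⁻¹ᵁ π ⁻¹ᵁ V)).op).hom _ _)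

theorem tmod3_hom_ext {X : Scheme.{u}} {A B C P : X.Modules} {f g : tmod (tmod A B) C ⟶ P}
    (h : ∀ (U : X.Opens) (a : Γ(A, U)) (b : Γ(B, U)) (c : Γ(C, U)),
      f.app U (pairS (tmod A B) C (pairS A B a b) c) = g.app U (pairS (tmod A B) C (pairS A B a b) c)) : f = g := by
  refine hom_ext_stalk fun x => LinearMap.ext fun w => ?_
  obtain ⟨w, rfl⟩ := (stalkTensor x (tmod A B) C).surjective w
  induction w using TensorProduct.induction_on with
  | zero => simp only [map_zero]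
  | tmul t c =>
    obtain ⟨t, rfl⟩ := (stalkTensor x A B).surjective t
    induction t using TensorProduct.induction_on with
    | zero => simp only [map_zero, TensorProduct.zero_tmul]
    | tmul a b =>
      obtain ⟨V, hV, a, b, rfl, rfl⟩ := exists_common_germ x a b
      obtain ⟨W, hW, c, rfl⟩ := TopCat.Presheaf.exists_germ_eq C.presheaf c
      have hx : x ∈ V ⊓ W := ⟨hV, hW⟩
      rw [← TopCat.Presheaf.germ_res_apply A.presheaf (homOfLE (inf_le_left : V ⊓ W ≤ V)) x hx a,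
        ← TopCat.Presheaf.germ_res_apply B.presheaf (homOfLE (inf_le_left : V ⊓ W ≤ V)) x hx b,
        ← TopCat.Presheaf.germ_res_apply C.presheaf (homOfLE (inf_le_right : V ⊓ W ≤ W)) x hx c]
      show stalkLin f x (stalkTensorHom x (stalkTensorHom x _ ⊗ₜ _)) =
        stalkLin g x (stalkTensorHom x (stalkTensorHom x _ ⊗ₜ _))
      rw [stalkTensorHom_tmul, stalkTensorHom_tmul]
      exact ((stalkLin_germ _ _ _ _).trans (congrArg _ (h _ _ _ _))).trans (stalkLin_germ _ _ _ _).symm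
    | add a b ha hb => simp only [map_add, TensorProduct.add_tmul, ha, hb]
  | add a b ha hb => simp only [map_add, ha, hb]

variable {U : Scheme.{u}} (𝒟 : Datum U)

/-- The product of the values in a member of the family. -/
def Datum.mulFam (n : ℕ) : Bilin 𝒟.E 𝒟.E (𝒟.A n) where
  b V := AddMonoidHom.mk' (fun a => AddMonoidHom.mk' (fun b => mulA (𝒟.q n) V ((𝒟.θ n).app V a) ((𝒟.θ n).app V b))
      fun b b' => (congrArg _ (map_add ((𝒟.θ n).app V).hom b b')).trans (mulA_add_right _ V _ _ _))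
    fun a a' => AddMonoidHom.ext fun b =>
      (congrArg (fun z => mulA (𝒟.q n) V z _) (map_add ((𝒟.θ n).app V).hom a a')).trans (mulA_add_left _ V _ _ _)
  smul_left V r a b :=
    (congrArg (fun z => mulA (𝒟.q n) V z _) (Scheme.Modules.Hom.app_smul (𝒟.θ n) r a)).trans (mulA_smul_left _ V r _ _)
  smul_right V r a b :=
    (congrArg _ (Scheme.Modules.Hom.app_smul (𝒟.θ n) r b)).trans (mulA_smul_right _ V r _ _)
  res {V V'} i a b :=
    (congrArg₂ (mulA (𝒟.q n) V') (ConcreteCategory.congr_hom ((𝒟.θ n).mapPresheaf.naturality i.op) a)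
      (ConcreteCategory.congr_hom ((𝒟.θ n).mapPresheaf.naturality i.op) b)).trans (mulA_res _ i _ _)

theorem Datum.mulFam_apply (n : ℕ) (V : U.Opens) (a b : Γ(𝒟.E, V)) :
    (𝒟.mulFam n).b V a b = mulA (𝒟.q n) V ((𝒟.θ n).app V a) ((𝒟.θ n).app V b) := rfl

theorem Datum.θ_app_comp (n : ℕ) (V : U.Opens) (a : Γ(𝒟.E, V)) :
    (𝒟.tr n).app V ((𝒟.θ (n + 1)).app V a) = (𝒟.θ n).app V a :=
  ConcreteCategory.congr_hom (congrArg (fun f => Scheme.Modules.Hom.app f V) (𝒟.θ_comp n)) a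

theorem Datum.exists_mul : ∃ μ : tmod 𝒟.E 𝒟.E ⟶ 𝒟.E, ∀ n, μ ≫ 𝒟.θ n = (𝒟.mulFam n).lift :=
  𝒟.exists_hom (DCohLib.isFinLocFree_tensor 𝒟.hE 𝒟.hE) _ fun n => by
    refine tmod_hom_ext fun V a b => ?_
    show (𝒟.tr n).app V ((𝒟.mulFam (n + 1)).lift.app V _) = _
    rw [Bilin.lift_pairS, Bilin.lift_pairS, mulFam_apply, mulFam_apply, secMap_mulA, θ_app_comp, θ_app_comp]

theorem Datum.exists_unit : ∃ η : Coh.structureModule U ⟶ 𝒟.E, ∀ n, η ≫ 𝒟.θ n = ClSub.unitToPush (𝒟.q n) :=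
  𝒟.exists_hom (BCLib.isFinLocFree_structureModule U) _ fun n => unitToPush_secMap (𝒟.j n) (𝒟.w n)

/-- The multiplication. -/
def Datum.μ : tmod 𝒟.E 𝒟.E ⟶ 𝒟.E := 𝒟.exists_mul.choose

/-- The unit. -/
def Datum.η : Coh.structureModule U ⟶ 𝒟.E := 𝒟.exists_unit.choose

theorem Datum.μ_θ (n : ℕ) : 𝒟.μ ≫ 𝒟.θ n = (𝒟.mulFam n).lift := 𝒟.exists_mul.choose_spec n

theorem Datum.η_θ (n : ℕ) : 𝒟.η ≫ 𝒟.θ n = ClSub.unitToPush (𝒟.q n) := 𝒟.exists_unit.choose_spec n

/-- The product of two sections. -/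
def Datum.mul (V : U.Opens) (a b : Γ(𝒟.E, V)) : Γ(𝒟.E, V) := 𝒟.μ.app V (pairS 𝒟.E 𝒟.E a b)

theorem Datum.θ_mul (n : ℕ) (V : U.Opens) (a b : Γ(𝒟.E, V)) :
    (𝒟.θ n).app V (𝒟.mul V a b) = mulA (𝒟.q n) V ((𝒟.θ n).app V a) ((𝒟.θ n).app V b) := by
  show (𝒟.μ ≫ 𝒟.θ n).app V (pairS 𝒟.E 𝒟.E a b) = _
  rw [μ_θ, Bilin.lift_pairS, mulFam_apply]

theorem Datum.mul_add_left (V : U.Opens) (a a' b : Γ(𝒟.E, V)) : 𝒟.mul V (a + a') b = 𝒟.mul V a b + 𝒟.mul V a' b := by
  rw [mul, pairS_add_left, map_add]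
  rfl

theorem Datum.mul_add_right (V : U.Opens) (a b b' : Γ(𝒟.E, V)) : 𝒟.mul V a (b + b') = 𝒟.mul V a b + 𝒟.mul V a b' := by
  rw [mul, pairS_add_right, map_add]
  rfl

theorem Datum.mul_smul_left (V : U.Opens) (r : Γ(U, V)) (a b : Γ(𝒟.E, V)) : 𝒟.mul V (r • a) b = r • 𝒟.mul V a b := by
  rw [mul, pairS_smul_left, Scheme.Modules.Hom.app_smul]
  rfl

theorem Datum.mul_smul_right (V : U.Opens) (r : Γ(U, V)) (a b : Γ(𝒟.E, V)) : 𝒟.mul V a (r • b) = r • 𝒟.mul V a b := by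
  rw [mul, pairS_smul_right, Scheme.Modules.Hom.app_smul]
  rfl

theorem Datum.mul_res {V V' : U.Opens} (i : V' ⟶ V) (a b : Γ(𝒟.E, V)) :
    𝒟.mul V' (𝒟.E.presheaf.map i.op a) (𝒟.E.presheaf.map i.op b) = 𝒟.E.presheaf.map i.op (𝒟.mul V a b) := by
  rw [show i = homOfLE (leOfHom i) from Subsingleton.elim _ _, mul, mul, ← res_pairS (leOfHom i)]
  exact app_natural 𝒟.μ (leOfHom i) _

theorem Datum.mul_comm (V : U.Opens) (a b : Γ(𝒟.E, V)) : 𝒟.mul V a b = 𝒟.mul V b a := by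
  let β : Bilin 𝒟.E 𝒟.E 𝒟.E :=
    { b := fun V => AddMonoidHom.mk' (fun a => AddMonoidHom.mk' (fun b => 𝒟.mul V b a)
          fun b b' => 𝒟.mul_add_left V b b' a)
        fun a a' => AddMonoidHom.ext fun b => 𝒟.mul_add_right V b a a'
      smul_left := fun V r a b => 𝒟.mul_smul_right V r b a
      smul_right := fun V r a b => 𝒟.mul_smul_left V r b a
      res := fun i a b => 𝒟.mul_res i b a }
  have h : 𝒟.μ = β.lift := 𝒟.hom_ext (DCohLib.isFinLocFree_tensor 𝒟.hE 𝒟.hE) fun n => by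
    refine tmod_hom_ext fun W a b => ?_
    show (𝒟.θ n).app W (𝒟.mul W a b) = (𝒟.θ n).app W (β.lift.app W _)
    rw [Bilin.lift_pairS]
    show _ = (𝒟.θ n).app W (𝒟.mul W b a)
    rw [θ_mul, θ_mul]
    exact _root_.mul_comm (show Γ(𝒟.R n, 𝒟.q n ⁻¹ᵁ W) from _) _
  have := congrArg (fun f => f.app V (pairS 𝒟.E 𝒟.E a b)) h
  exact this.trans (β.lift_pairS V a b)

theorem Datum.mul_assoc (V : U.Opens) (a b c : Γ(𝒟.E, V)) :
    𝒟.mul V (𝒟.mul V a b) c = 𝒟.mul V a (𝒟.mul V b c) := by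
  let T := DCoh.tensorBi (X := U)
  have h : (T.map 𝒟.μ).app 𝒟.E ≫ 𝒟.μ = assocMap 𝒟.E 𝒟.E 𝒟.E ≫ (T.obj 𝒟.E).map 𝒟.μ ≫ 𝒟.μ :=
    𝒟.hom_ext (DCohLib.isFinLocFree_tensor (DCohLib.isFinLocFree_tensor 𝒟.hE 𝒟.hE) 𝒟.hE) fun n => by
      refine tmod3_hom_ext fun W a b c => ?_
      simp only [T, Scheme.Modules.Hom.comp_app, ConcreteCategory.comp_apply]
      rw [tensorBi_app_pairS_left, assocMap_pairS]
      erw [tensorBi_app_pairS_right]
      show (𝒟.θ n).app W (𝒟.mul W (𝒟.mul W a b) c) = (𝒟.θ n).app W (𝒟.mul W a (𝒟.mul W b c))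
      rw [θ_mul, θ_mul, θ_mul, θ_mul]
      exact _root_.mul_assoc (G := Γ(𝒟.R n, 𝒟.q n ⁻¹ᵁ W)) _ _ _
  have := congrArg (fun f => f.app V (pairS (tmod 𝒟.E 𝒟.E) 𝒟.E (pairS 𝒟.E 𝒟.E a b) c)) h
  simp only [T, Scheme.Modules.Hom.comp_app, ConcreteCategory.comp_apply] at this
  rw [tensorBi_app_pairS_left, assocMap_pairS] at this
  erw [tensorBi_app_pairS_right] at this
  exact this

/-- The unit section. -/
def Datum.one (V : U.Opens) : Γ(𝒟.E, V) := 𝒟.η.app V (show Γ(Coh.structureModule U, V) from (1 : Γ(U, V)))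

theorem Datum.θ_one (n : ℕ) (V : U.Opens) :
    (𝒟.θ n).app V (𝒟.one V) = (show Γ(𝒟.A n, V) from (1 : Γ(𝒟.R n, 𝒟.q n ⁻¹ᵁ V))) := by
  show (𝒟.η ≫ 𝒟.θ n).app V _ = _
  rw [η_θ]
  exact map_one ((𝒟.q n).app V).hom

theorem Datum.one_res {V V' : U.Opens} (i : V' ⟶ V) : 𝒟.E.presheaf.map i.op (𝒟.one V) = 𝒟.one V' :=
  (ConcreteCategory.congr_hom (𝒟.η.mapPresheaf.naturality i.op) _).symm.trans
    (congrArg (𝒟.η.app V') (map_one (U.presheaf.map i.op).hom))

theorem Datum.one_mul (V : U.Opens) (a : Γ(𝒟.E, V)) : 𝒟.mul V (𝒟.one V) a = a := by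
  let β : Bilin 𝒟.E (Coh.structureModule U) 𝒟.E :=
    { b := fun V => AddMonoidHom.mk' (fun a => AddMonoidHom.mk' (fun r => 𝒟.mul V (𝒟.η.app V r) a)
          fun r r' => (congrArg (fun z => 𝒟.mul V z a) (map_add (𝒟.η.app V).hom r r')).trans
            (𝒟.mul_add_left V _ _ a))
        fun a a' => AddMonoidHom.ext fun r => 𝒟.mul_add_right V _ a a'
      smul_left := fun V s a r => 𝒟.mul_smul_right V s _ a
      smul_right := fun V s a r =>
        (congrArg (fun z => 𝒟.mul V z a) (Scheme.Modules.Hom.app_smul 𝒟.η s r)).trans (𝒟.mul_smul_left V s _ a)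
      res := fun i a r =>
        (congrArg (fun z => 𝒟.mul _ z _) (ConcreteCategory.congr_hom (𝒟.η.mapPresheaf.naturality i.op) r)).trans
          (𝒟.mul_res i _ a) }
  have h : β.lift = runitMap 𝒟.E :=
    𝒟.hom_ext (DCohLib.isFinLocFree_tensor 𝒟.hE (BCLib.isFinLocFree_structureModule U)) fun n => by
      refine tmod_hom_ext fun W a r => ?_
      show (𝒟.θ n).app W (β.lift.app W _) = (𝒟.θ n).app W ((runitMap 𝒟.E).app W _)
      rw [Bilin.lift_pairS]
      erw [runitMap_pairS]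
      show (𝒟.θ n).app W (𝒟.mul W (𝒟.η.app W r) a) = _
      rw [θ_mul, Scheme.Modules.Hom.app_smul,
        show (𝒟.θ n).app W (𝒟.η.app W r) = (ClSub.unitToPush (𝒟.q n)).app W r from
          ConcreteCategory.congr_hom (congrArg (fun f => Scheme.Modules.Hom.app f W) (𝒟.η_θ n)) r]
      rfl
  have := congrArg (fun f => f.app V (pairS 𝒟.E (Coh.structureModule U) a
    (show Γ(Coh.structureModule U, V) from (1 : Γ(U, V))))) h
  simp only [Bilin.lift_pairS] at this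
  erw [runitMap_pairS] at this
  exact this.trans (one_smul _ a)

end Groth.Agent.LeffEtLib
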