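import Groth.Agent.LeffEtLib.Dual
import Groth.Agent.LefEtaleLib.SecMap
import Groth.Agent.LeffCoreLib.Stalk
import Groth.Agent.LeffCoreLib.Field
import Groth.Agent.PullbackMod.Hom
import Groth.Prelude.Def_Lef

/-!
# Algebraization of maps into a formal family under the Lefschetz bijection
-/

set_option autoImplicit false
set_option backward.isDefEq.respectTransparency false
set_option linter.style.haveILetI false
set_option maxHeartbeats 1000000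

universe u

open CategoryTheory CategoryTheory.Limits AlgebraicGeometry TopologicalSpace Opposite
open Groth.Agent.PullbackMod Groth.Agent.DCohLib Groth.Agent.StalkHomLib Groth.Agent.LocFreeHomLib
open scoped TensorProduct

noncomputable section

namespace Groth.Agent.LeffEtLib

/-- A locally free module algebraizing a formal family of finite algebras, with the Lefschetz bijection. -/
structure Datum (U : Scheme.{u}) where
  J : U.IdealSheafData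
  R : ℕ → Scheme.{u}
  q : ∀ n, R n ⟶ U
  j : ∀ n, R n ⟶ R (n + 1)
  w : ∀ n, j n ≫ q (n + 1) = q n
  E : U.Modules
  hE : FlatMod.IsFinLocFree E
  θ : ∀ n, E ⟶ (Scheme.Modules.pushforward (q n)).obj (Coh.structureModule (R n))
  θ_comp : ∀ n, θ (n + 1) ≫ LefEtaleLib.secMap (j n) (w n) = θ n
  θ_stalk : ∀ (n : ℕ) (x : U), Function.Surjective (stalkLin (θ n) x) ∧
    LinearMap.ker (stalkLin (θ n) x) = IntMult.stalkIdeal (J ^ (n + 1)) x • ⊤
  hP : ∀ D : U.Modules, FlatMod.IsFinLocFree D → Lef.HomToFormalBijective J D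

variable {U : Scheme.{u}} (𝒟 : Datum U)

local instance hasHF' (M : U.Modules) : ModSite.HasSheafHom (O := U.sheaf) M :=
  ModTensor.hasSheafHom (O := U.sheaf) M

/-- The members of the family. -/
abbrev Datum.A (n : ℕ) : U.Modules := (Scheme.Modules.pushforward (𝒟.q n)).obj (Coh.structureModule (𝒟.R n))

/-- The transition maps of the family. -/
abbrev Datum.tr (n : ℕ) : 𝒟.A (n + 1) ⟶ 𝒟.A n := LefEtaleLib.secMap (𝒟.j n) (𝒟.w n)

/-- Tensoring a map with the dual of the algebraizing module. -/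
abbrev Datum.rT {M N : U.Modules} (f : M ⟶ N) : tmod M (dualE 𝒟.E) ⟶ tmod N (dualE 𝒟.E) :=
  ((DCoh.tensorBi (X := U)).map f).app (dualE 𝒟.E)

theorem Datum.rT_comp {M N P : U.Modules} (f : M ⟶ N) (g : N ⟶ P) : 𝒟.rT (f ≫ g) = 𝒟.rT f ≫ 𝒟.rT g := by
  simp [Datum.rT]

theorem Datum.rT_stalk {M N : U.Modules} (f : M ⟶ N) (x : U) (m : M.presheaf.stalk x)
    (φ : (dualE 𝒟.E).presheaf.stalk x) :
    stalkLin (𝒟.rT f) x (stalkTensor x M _ (m ⊗ₜ φ)) = stalkTensor x N _ (stalkLin f x m ⊗ₜ φ) := by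
  rw [stalkTensor_natural_left, LinearMap.rTensor_tmul]

theorem Datum.epi_rT (n : ℕ) : Epi (𝒟.rT (𝒟.θ n)) := by
  refine (PullbackMod.epi_iff_stalk _).2 fun x w => ?_
  obtain ⟨z, rfl⟩ := (stalkTensor x (𝒟.A n) (dualE 𝒟.E)).surjective w
  obtain ⟨z', rfl⟩ := LinearMap.rTensor_surjective _ (𝒟.θ_stalk n x).1 z
  exact ⟨_, stalkTensor_natural_left x (𝒟.θ n) z'⟩

theorem Datum.exists_pairing (n : ℕ) : ∃ Ψ : tmod (𝒟.A n) (dualE 𝒟.E) ⟶ ClSub.quotMod (𝒟.J ^ (n + 1)),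
    𝒟.rT (𝒟.θ n) ≫ Ψ = evSwap 𝒟.E ≫ ClSub.toSubscheme (𝒟.J ^ (n + 1)) := by
  haveI := 𝒟.epi_rT n
  refine LeffCore.exists_desc _ _ (hom_ext_stalk fun x => LinearMap.ext fun w => ?_)
  rw [stalkLin_comp, LinearMap.comp_apply]
  have h0 : stalkLin (𝒟.rT (𝒟.θ n)) x (stalkLin (kernel.ι (𝒟.rT (𝒟.θ n))) x w) = 0 := by
    rw [← LinearMap.comp_apply, ← stalkLin_comp, kernel.condition, DevLib.stalkLin_zero, LinearMap.zero_apply]
  rw [DevLib.stalkLin_zero, LinearMap.zero_apply]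
  revert h0
  generalize stalkLin (kernel.ι (𝒟.rT (𝒟.θ n))) x w = v
  obtain ⟨z, rfl⟩ := (stalkTensor x 𝒟.E (dualE 𝒟.E)).surjective v
  intro h0
  rw [stalkTensor_natural_left] at h0
  replace h0 := (stalkTensor x (𝒟.A n) (dualE 𝒟.E)).injective (h0.trans (map_zero _).symm)
  obtain ⟨k, rfl⟩ : z ∈ LinearMap.range ((LinearMap.ker (stalkLin (𝒟.θ n) x)).subtype.rTensor
      ((dualE 𝒟.E).presheaf.stalk x)) :=
    ((rTensor_exact _ (f := (LinearMap.ker (stalkLin (𝒟.θ n) x)).subtype) (LinearMap.exact_subtype_ker_map _)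
      (𝒟.θ_stalk n x).1) z).1 h0
  clear h0
  induction k using TensorProduct.induction_on with
  | zero => simp only [map_zero]
  | tmul k φ =>
    obtain ⟨k, hk⟩ := k
    rw [(𝒟.θ_stalk n x).2] at hk
    show stalkLin (evSwap 𝒟.E ≫ ClSub.toSubscheme (𝒟.J ^ (n + 1))) x (stalkTensor x _ _ (k ⊗ₜ φ)) = 0
    rw [stalkLin_comp, LinearMap.comp_apply, evSwap_stalk]
    refine Submodule.smul_induction_on hk (fun a ha e _ => ?_) fun a b ha hb => by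
      rw [map_add, map_add, ha, hb, add_zero]
    obtain ⟨c, hc⟩ := (ParaFLib.bijective_oneG x).2 (theta 𝒟.E (Coh.structureModule U) x φ e)
    rw [map_smul, ← hc, smul_smul]
    exact (LeffCore.toSub_eq_zero_iff _ x _).2 (Ideal.mul_mem_right c _ ha)
  | add a b ha hb => simp only [map_add, ha, hb, add_zero]

/-- The pairing of the `n`-th member with the dual. -/
def Datum.Ψ (n : ℕ) : tmod (𝒟.A n) (dualE 𝒟.E) ⟶ ClSub.quotMod (𝒟.J ^ (n + 1)) := (𝒟.exists_pairing n).choose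

theorem Datum.rT_Ψ (n : ℕ) :
    𝒟.rT (𝒟.θ n) ≫ 𝒟.Ψ n = evSwap 𝒟.E ≫ ClSub.toSubscheme (𝒟.J ^ (n + 1)) :=
  (𝒟.exists_pairing n).choose_spec

theorem Datum.Ψ_trans (n : ℕ) :
    𝒟.Ψ (n + 1) ≫ Lef.quotMap (Lef.pow_succ_le 𝒟.J n) = 𝒟.rT (𝒟.tr n) ≫ 𝒟.Ψ n := by
  haveI := 𝒟.epi_rT (n + 1)
  rw [← cancel_epi (𝒟.rT (𝒟.θ (n + 1))), reassoc_of% (𝒟.rT_Ψ (n + 1)), LefAmpleLib.toSubscheme_quotMap,
    ← Category.assoc, ← 𝒟.rT_comp, 𝒟.θ_comp, 𝒟.rT_Ψ]

/-- Maps into a member are determined by their pairings with the dual. -/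
theorem Datum.hom_ext_Ψ {M : U.Modules} (n : ℕ) {a b : M ⟶ 𝒟.A n} (h : 𝒟.rT a ≫ 𝒟.Ψ n = 𝒟.rT b ≫ 𝒟.Ψ n) :
    a = b := by
  refine hom_ext_stalk fun x => LinearMap.ext fun m => sub_eq_zero.1 ?_
  have hz : ∀ φ, stalkLin (𝒟.Ψ n) x (stalkTensor x (𝒟.A n) (dualE 𝒟.E) ((stalkLin a x m - stalkLin b x m) ⊗ₜ φ)) = 0 :=
    fun φ => by
    have h' := congrArg (fun g => stalkLin g x (stalkTensor x M (dualE 𝒟.E) (m ⊗ₜ φ))) h
    simp only [stalkLin_comp, LinearMap.comp_apply, 𝒟.rT_stalk] at h'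
    rw [TensorProduct.sub_tmul, map_sub, map_sub, h', sub_self]
  obtain ⟨e, he⟩ := (𝒟.θ_stalk n x).1 (stalkLin a x m - stalkLin b x m)
  rw [← he, ← LinearMap.mem_ker, (𝒟.θ_stalk n x).2]
  refine mem_smul_of_theta 𝒟.hE x _ e fun φ => ?_
  obtain ⟨c, hc⟩ := (ParaFLib.bijective_oneG x).2 (theta 𝒟.E (Coh.structureModule U) x φ e)
  refine ⟨c, (LeffCore.toSub_eq_zero_iff _ x c).1 ?_, hc.symm⟩
  have := hz φ
  rw [← he, ← 𝒟.rT_stalk, ← LinearMap.comp_apply, ← stalkLin_comp, 𝒟.rT_Ψ, stalkLin_comp, LinearMap.comp_apply,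
    evSwap_stalk, ← hc] at this
  exact this

theorem Datum.transpose {M : U.Modules} (u : M ⟶ 𝒟.E) :
    ((ModSite.sheafHomAdj (O := U.sheaf) (dualE 𝒟.E)).homEquiv M (Coh.structureModule U)).symm (u ≫ bidual 𝒟.E) =
      𝒟.rT u ≫ evSwap 𝒟.E := by
  rw [Adjunction.homEquiv_naturality_left_symm, bidual, Equiv.symm_apply_apply]
  rfl

/-- Maps into the algebraizing module are determined by the family. -/
theorem Datum.hom_ext {M : U.Modules} (hM : FlatMod.IsFinLocFree M) {u v : M ⟶ 𝒟.E}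
    (h : ∀ n, u ≫ 𝒟.θ n = v ≫ 𝒟.θ n) : u = v := by
  haveI := isIso_bidual 𝒟.hE
  rw [← cancel_mono (bidual 𝒟.E)]
  apply ((ModSite.sheafHomAdj (O := U.sheaf) (dualE 𝒟.E)).homEquiv M (Coh.structureModule U)).symm.injective
  rw [𝒟.transpose, 𝒟.transpose]
  refine (𝒟.hP _ (DCohLib.isFinLocFree_tensor hM (DCohMore.isFinLocFree_dual 𝒟.E 𝒟.hE))).1 _ _ fun n => ?_
  rw [Category.assoc, Category.assoc, ← 𝒟.rT_Ψ, ← Category.assoc, ← Category.assoc, ← 𝒟.rT_comp, ← 𝒟.rT_comp, h]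

/-- Compatible maps into the family algebraize. -/
theorem Datum.exists_hom {M : U.Modules} (hM : FlatMod.IsFinLocFree M) (g : ∀ n, M ⟶ 𝒟.A n)
    (hg : ∀ n, g (n + 1) ≫ 𝒟.tr n = g n) : ∃ u : M ⟶ 𝒟.E, ∀ n, u ≫ 𝒟.θ n = g n := by
  haveI := isIso_bidual 𝒟.hE
  obtain ⟨Φ, hΦ⟩ := (𝒟.hP _ (DCohLib.isFinLocFree_tensor hM (DCohMore.isFinLocFree_dual 𝒟.E 𝒟.hE))).2
    (fun n => 𝒟.rT (g n) ≫ 𝒟.Ψ n) fun n => by
      rw [Category.assoc, 𝒟.Ψ_trans, ← Category.assoc, ← 𝒟.rT_comp, hg]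
  refine ⟨(ModSite.sheafHomAdj (O := U.sheaf) (dualE 𝒟.E)).homEquiv M (Coh.structureModule U) Φ ≫ inv (bidual 𝒟.E),
    fun n => 𝒟.hom_ext_Ψ n ?_⟩
  have h1 := 𝒟.transpose
    ((ModSite.sheafHomAdj (O := U.sheaf) (dualE 𝒟.E)).homEquiv M (Coh.structureModule U) Φ ≫ inv (bidual 𝒟.E))
  rw [Category.assoc, IsIso.inv_hom_id, Category.comp_id, Equiv.symm_apply_apply] at h1
  rw [𝒟.rT_comp, Category.assoc, 𝒟.rT_Ψ, ← Category.assoc]
  exact (congrArg (· ≫ _) h1.symm).trans (hΦ n)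

end Groth.Agent.LeffEtLib
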