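import Groth.Agent.LefEtaleLib.SecMap
import Groth.Agent.PullbackMod.Sections
import Groth.Agent.PullbackMod.Flat
import Groth.Agent.ASBunKS.CoverIso
import Groth.Agent.QCohLib.Push

/-!
# Inverse images of direct images of structure sheaves along affine base changes
-/

set_option autoImplicit false
set_option backward.isDefEq.respectTransparency false
set_option linter.style.haveILetI false
set_option maxHeartbeats 1000000

universe u

open CategoryTheory CategoryTheory.Limits AlgebraicGeometry TopologicalSpace Opposite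
open Groth.Agent.PullbackMod
open scoped TensorProduct

noncomputable section

namespace Groth.Agent.LeffEtLib

theorem bijective_of_isBaseChange {A B M N₁ N₂ : Type u} [CommRing A] [CommRing B] [Algebra A B] [AddCommGroup M]
    [Module A M] [AddCommGroup N₁] [Module A N₁] [Module B N₁] [IsScalarTower A B N₁] [AddCommGroup N₂] [Module A N₂]
    [Module B N₂] [IsScalarTower A B N₂] {θ₁ : M →ₗ[A] N₁} (h₁ : IsBaseChange B θ₁) {θ₂ : M →ₗ[A] N₂}
    (h₂ : IsBaseChange B θ₂) (f : N₁ →+ N₂) (hf : ∀ (b : B) (n : N₁), f (b • n) = b • f n)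
    (hc : ∀ m, f (θ₁ m) = θ₂ m) : Function.Bijective f := by
  have h : ∀ t : B ⊗[A] M, f (h₁.equiv t) = h₂.equiv t := fun t => by
    induction t using TensorProduct.induction_on with
    | zero => rw [map_zero, map_zero, map_zero]
    | tmul b m => rw [IsBaseChange.equiv_tmul, IsBaseChange.equiv_tmul, hf, hc]
    | add a b ha hb => rw [map_add, map_add, map_add, ha, hb]
  have : (f : N₁ → N₂) = h₂.equiv ∘ h₁.equiv.symm := funext fun n => by
    obtain ⟨t, rfl⟩ := h₁.equiv.surjective n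
    rw [Function.comp_apply, h, LinearEquiv.symm_apply_apply]
  rw [this]
  exact h₂.equiv.bijective.comp h₁.equiv.symm.bijective

variable {R R' Z Z' : Scheme.{u}} {j : R ⟶ R'} {π : R ⟶ Z} {π' : R' ⟶ Z'} {ι : Z ⟶ Z'}

/-- The map `π'_* O → ι_* π_* O` of a square. -/
def pushSquare (w : j ≫ π' = π ≫ ι) :
    (Scheme.Modules.pushforward π').obj (Coh.structureModule R') ⟶
      (Scheme.Modules.pushforward ι).obj ((Scheme.Modules.pushforward π).obj (Coh.structureModule R)) :=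
  LefEtaleLib.secMap j w ≫ (Scheme.Modules.pushforwardComp π ι).inv.app _

theorem pushSquare_app (w : j ≫ π' = π ≫ ι) (V : Z'.Opens) (s : Γ(R', π' ⁻¹ᵁ V)) :
    (pushSquare w).app V s = R.presheaf.map (eqToHom (by
      change (π ≫ ι) ⁻¹ᵁ V = (j ≫ π') ⁻¹ᵁ V
      rw [w])).op (j.app (π' ⁻¹ᵁ V) s) :=
  LefEtaleLib.secMap_app j w V s

/-- The base change map `ι^* π'_* O → π_* O`. -/
def pullPush (w : j ≫ π' = π ≫ ι) :
    (Scheme.Modules.pullback ι).obj ((Scheme.Modules.pushforward π').obj (Coh.structureModule R')) ⟶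
      (Scheme.Modules.pushforward π).obj (Coh.structureModule R) :=
  ((Scheme.Modules.pullbackPushforwardAdjunction ι).homEquiv _ _).symm (pushSquare w)

theorem pullPush_pullMap (w : j ≫ π' = π ≫ ι) {V : Z'.Opens} (s : Γ(R', π' ⁻¹ᵁ V)) :
    (pullPush w).app (ι ⁻¹ᵁ V)
        (pullMap ι ((Scheme.Modules.pushforward π').obj (Coh.structureModule R')) (le_refl (ι ⁻¹ᵁ V)) s) =
      (pushSquare w).app V s := by
  let adj := Scheme.Modules.pullbackPushforwardAdjunction ι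
  have h : adj.unit.app _ ≫ (Scheme.Modules.pushforward ι).map (pullPush w) = pushSquare w := by
    refine (adj.homEquiv_unit (f := pullPush w)).symm.trans ?_
    exact Equiv.apply_symm_apply _ _
  refine Eq.trans ?_ (ConcreteCategory.congr_hom (congrArg (fun m => Scheme.Modules.Hom.app m V) h) s)
  show (pullPush w).app (ι ⁻¹ᵁ V) (((Scheme.Modules.pullback ι).obj _).presheaf.map _ _) = _
  refine congrArg _ ?_
  exact ConcreteCategory.congr_hom (((Scheme.Modules.pullback ι).obj _).presheaf.map_id _) _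

theorem appLE_eq_app_of_eq {X Y : Scheme.{u}} (f : X ⟶ Y) {U : Y.Opens} {O : X.Opens} (hO : O = f ⁻¹ᵁ U)
    (s : Γ(Y, U)) : f.appLE U O hO.le s = X.presheaf.map (eqToHom hO).op (f.app U s) := by
  subst hO
  rw [Scheme.Hom.app_eq_appLE]
  exact (ConcreteCategory.congr_hom (X.presheaf.map_id _) _).symm

variable (hc : IsPullback j π π' ι)

include hc in
/-- Affine base change for direct images of structure sheaves. -/
theorem isIso_pullPush [IsAffineHom π'] [IsAffineHom ι] : IsIso (pullPush hc.w) := by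
  haveI : IsAffineHom π := MorphismProperty.of_isPullback hc ‹IsAffineHom π'›
  let P' := (Scheme.Modules.pushforward π').obj (Coh.structureModule R')
  let P := (Scheme.Modules.pushforward π).obj (Coh.structureModule R)
  haveI : Coh.IsQCoh P' := QCohLib.isQCoh_pushforward _ π'
  haveI : Coh.IsQCoh P := QCohLib.isQCoh_pushforward _ π
  haveI : Coh.IsQCoh ((Scheme.Modules.pullback ι).obj P') := PullbackMod.isQCoh_pullback ι P'
  refine ASBunKS.isIso_of_cover _ fun z => ?_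
  obtain ⟨_, ⟨V : Z'.Opens, hV, rfl⟩, hzV, -⟩ :=
    Z'.isBasis_affineOpens.exists_subset_of_mem_open (a := ι z) (Set.mem_univ _) isOpen_univ
  refine ⟨ι ⁻¹ᵁ V, hV.preimage ι, hzV, ?_⟩
  let V' := ι ⁻¹ᵁ V
  have hO : π ⁻¹ᵁ V' = j ⁻¹ᵁ (π' ⁻¹ᵁ V) := by
    rw [← Scheme.Hom.comp_preimage, ← Scheme.Hom.comp_preimage, hc.w]
  have hO' : j ⁻¹ᵁ (π' ⁻¹ᵁ V) ⊓ π ⁻¹ᵁ V' = π ⁻¹ᵁ V' := by rw [← hO, inf_idem]
  obtain ⟨-, hpo⟩ := isPushout_appLE hc hV (hV.preimage π') (hV.preimage ι) (le_refl (π' ⁻¹ᵁ V)) (le_refl V')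
  letI iAB : Algebra Γ(Z', V) Γ(Z, V') := (ι.appLE V V' le_rfl).hom.toAlgebra
  letI iAW : Algebra Γ(Z', V) Γ(R', π' ⁻¹ᵁ V) := (π'.appLE V _ le_rfl).hom.toAlgebra
  letI iWO : Algebra Γ(R', π' ⁻¹ᵁ V) Γ(R, j ⁻¹ᵁ (π' ⁻¹ᵁ V) ⊓ π ⁻¹ᵁ V') := (j.appLE _ _ inf_le_left).hom.toAlgebra
  letI iBO : Algebra Γ(Z, V') Γ(R, j ⁻¹ᵁ (π' ⁻¹ᵁ V) ⊓ π ⁻¹ᵁ V') := (π.appLE V' _ inf_le_right).hom.toAlgebra
  letI iAO : Algebra Γ(Z', V) Γ(R, j ⁻¹ᵁ (π' ⁻¹ᵁ V) ⊓ π ⁻¹ᵁ V') :=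
    ((j.appLE (π' ⁻¹ᵁ V) _ inf_le_left).hom.comp (π'.appLE V _ le_rfl).hom).toAlgebra
  haveI : IsScalarTower Γ(Z', V) Γ(R', π' ⁻¹ᵁ V) Γ(R, j ⁻¹ᵁ (π' ⁻¹ᵁ V) ⊓ π ⁻¹ᵁ V') :=
    .of_algebraMap_eq fun _ => rfl
  haveI : IsScalarTower Γ(Z', V) Γ(Z, V') Γ(R, j ⁻¹ᵁ (π' ⁻¹ᵁ V) ⊓ π ⁻¹ᵁ V') :=
    .of_algebraMap_eq' (by
      show ((π'.appLE V _ le_rfl) ≫ j.appLE _ _ inf_le_left).hom =
        ((ι.appLE V V' le_rfl) ≫ π.appLE V' _ inf_le_right).hom
      simp only [Scheme.Hom.appLE_comp_appLE, hc.w])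
  haveI hpo' : Algebra.IsPushout Γ(Z', V) Γ(Z, V') Γ(R', π' ⁻¹ᵁ V) Γ(R, j ⁻¹ᵁ (π' ⁻¹ᵁ V) ⊓ π ⁻¹ᵁ V') := hpo
  let gP := (Scheme.Modules.pullback ι).obj P'
  letI : Module Γ(Z', V) Γ(gP, V') := Module.compHom _ (ι.appLE V V' le_rfl).hom
  haveI : IsScalarTower Γ(Z', V) Γ(Z, V') Γ(gP, V') := .of_algebraMap_smul fun _ _ => rfl
  have h₁ := isBaseChange_pullMapL ι P' hV (hV.preimage ι) (le_refl V')
  let e : Γ(R', π' ⁻¹ᵁ V) ≃ₗ[Γ(Z', V)] Γ(P', V) :=
    { AddEquiv.refl _ with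
      map_smul' := fun r s => by
        refine (Algebra.smul_def r (s : Γ(R', π' ⁻¹ᵁ V))).trans ?_
        show π'.appLE V _ le_rfl r * s = (show Γ(R', π' ⁻¹ᵁ V) from π'.app V r) * s
        rw [Scheme.Hom.app_eq_appLE] }
  let f : Γ(gP, V') →+ Γ(R, j ⁻¹ᵁ (π' ⁻¹ᵁ V) ⊓ π ⁻¹ᵁ V') :=
    (R.presheaf.map (eqToHom hO').op).hom.toAddMonoidHom.comp ((pullPush hc.w).app V').hom
  suffices Function.Bijective f by
    exact (Function.Bijective.of_comp_iff'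
      (ConcreteCategory.bijective_of_isIso (R.presheaf.map (eqToHom hO').op)) _).1 this
  refine bijective_of_isBaseChange h₁
    (θ₂ := (IsScalarTower.toAlgHom Γ(Z', V) Γ(R', π' ⁻¹ᵁ V)
      Γ(R, j ⁻¹ᵁ (π' ⁻¹ᵁ V) ⊓ π ⁻¹ᵁ V')).toLinearMap ∘ₗ e.symm.toLinearMap)
    (hpo'.out.comp_equiv e.symm) f ?_ ?_
  · intro b n
    show R.presheaf.map (eqToHom hO').op ((pullPush hc.w).app V' (b • n)) = _
    rw [Scheme.Modules.Hom.app_smul]
    refine (map_mul (R.presheaf.map (eqToHom hO').op).hom (π.app V' b : Γ(R, π ⁻¹ᵁ V'))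
      ((pullPush hc.w).app V' n : Γ(R, π ⁻¹ᵁ V'))).trans ?_
    refine congrArg₂ (· * ·) ?_ rfl
    exact (appLE_eq_app_of_eq π hO' b).symm
  · intro s
    show R.presheaf.map (eqToHom hO').op ((pullPush hc.w).app V' (pullMap ι P' le_rfl s)) =
      j.appLE (π' ⁻¹ᵁ V) _ _ s
    rw [pullPush_pullMap, pushSquare_app, appLE_eq_app_of_eq j (by rw [← hO, inf_idem] :
        j ⁻¹ᵁ (π' ⁻¹ᵁ V) ⊓ π ⁻¹ᵁ V' = j ⁻¹ᵁ (π' ⁻¹ᵁ V))]
    refine (ConcreteCategory.comp_apply _ _ _).symm.trans ?_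
    rw [← R.presheaf.map_comp]
    rfl

end Groth.Agent.LeffEtLib
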