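import Groth.Agent.LeffCoreLib.Stalk
import Groth.Agent.EtAlgEasy.ConormalStalk
import Groth.Agent.IdealMulLib.Basic

/-!
# Transposes of isomorphisms along closed immersions, at the stalks
-/

set_option autoImplicit false
set_option backward.isDefEq.respectTransparency false
set_option linter.style.haveILetI false

universe u

open CategoryTheory CategoryTheory.Limits AlgebraicGeometry TopologicalSpace Opposite
open Groth.Agent.PullbackMod
open scoped TensorProduct

noncomputable section

namespace Groth.Agent.LeffEtLib

variable {X Z : Scheme.{u}} (k : Z ⟶ X) [IsClosedImmersion k]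

/-- The unit along a closed immersion, at the stalks. -/
theorem stalk_unit (M : X.Modules) [Coh.IsQCoh M] (x : X) :
    Function.Surjective (stalkLin ((Scheme.Modules.pullbackPushforwardAdjunction k).unit.app M) x) ∧
      LinearMap.ker (stalkLin ((Scheme.Modules.pullbackPushforwardAdjunction k).unit.app M) x) =
        IntMult.stalkIdeal k.ker x • ⊤ := by
  let u := (Scheme.Modules.pullbackPushforwardAdjunction k).unit.app M
  by_cases hx : x ∈ Set.range k
  · obtain ⟨z, rfl⟩ := hx
    letI : Algebra (X.presheaf.stalk (k z)) (Z.presheaf.stalk z) := (k.stalkMap z).hom.toAlgebra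
    letI := Module.compHom (((Scheme.Modules.pullback k).obj M).presheaf.stalk z) (k.stalkMap z).hom
    haveI : IsScalarTower (X.presheaf.stalk (k z)) (Z.presheaf.stalk z)
        (((Scheme.Modules.pullback k).obj M).presheaf.stalk z) :=
      .of_algebraMap_smul fun _ _ => rfl
    obtain ⟨h1, h2⟩ := FormalSys.baseChange_ker _ (isBaseChange_pullStalkL k M z) (k.stalkMap_surjective z)
    have hb := DCohLib.bijective_pushStalk k ((Scheme.Modules.pullback k).obj M) z
    have e := DCohLib.unit_stalk_pushStalk k M z
    refine ⟨fun y => ?_, ?_⟩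
    · obtain ⟨m, hm⟩ := h1 (DCohLib.pushStalk k _ z y)
      exact ⟨m, hb.1 ((e m).trans hm)⟩
    · rw [EtAlgEasy.ConormalStalk.stalkIdeal_ker k z]
      refine Eq.trans ?_ h2
      ext m
      show stalkLin u _ m = 0 ↔ pullStalk k M z m = 0
      refine ⟨fun h => (e m).symm.trans ((congrArg _ h).trans (map_zero _)), fun h => hb.1 ?_⟩
      exact ((e m).trans h).trans (map_zero _).symm
  · haveI : Subsingleton (((Scheme.Modules.pullback k ⋙ Scheme.Modules.pushforward k).obj M).presheaf.stalk x) :=
      DCohLib.subsingleton_stalk_pushforward k _ x hx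
    have htop : IntMult.stalkIdeal k.ker x = ⊤ := IdealMulLib.stalkIdeal_eq_top _ fun h => hx (by
      rw [← SetLike.mem_coe, Scheme.Hom.support_ker] at h
      rwa [k.isClosedEmbedding.isClosed_range.closure_eq] at h)
    refine ⟨fun y => ⟨0, Subsingleton.elim _ _⟩, ?_⟩
    rw [htop, Submodule.top_smul]
    exact top_unique fun m _ => LinearMap.mem_ker.2 (Subsingleton.elim _ _)

/-- The transpose of an isomorphism along a closed immersion, at the stalks. -/
theorem stalk_homEquiv_iso (M : X.Modules) [Coh.IsQCoh M] {N : Z.Modules}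
    (a : (Scheme.Modules.pullback k).obj M ≅ N) (x : X) :
    Function.Surjective (stalkLin ((Scheme.Modules.pullbackPushforwardAdjunction k).homEquiv _ _ a.hom) x) ∧
      LinearMap.ker (stalkLin ((Scheme.Modules.pullbackPushforwardAdjunction k).homEquiv _ _ a.hom) x) =
        IntMult.stalkIdeal k.ker x • ⊤ := by
  obtain ⟨h1, h2⟩ := stalk_unit k M x
  have hb : Function.Bijective (stalkLin ((Scheme.Modules.pushforward k).map a.hom) x) :=
    (isIso_iff_stalk _).1 inferInstance x
  rw [Adjunction.homEquiv_unit, stalkLin_comp]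
  refine ⟨hb.2.comp h1, ?_⟩
  rw [LinearMap.ker_comp, LinearMap.ker_eq_bot.2 hb.1, Submodule.comap_bot, h2]

end Groth.Agent.LeffEtLib
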