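import Groth.Agent.LeffEtLib.AlgebraStr
import Groth.Agent.LeffEtLib.Push
import Groth.Agent.LeffEtLib.Unit
import Groth.Agent.QCohLib.Criterion
import Groth.Agent.RelSpecLib.Basic
import Groth.Agent.FinLocFreeLib.Basic
import Groth.Agent.DefGlueLib.Iso
import Groth.Agent.FormalLib.ProperSupport

/-!
# The finite locally free scheme of an algebraized family
-/

set_option autoImplicit false
set_option backward.isDefEq.respectTransparency false
set_option linter.style.haveILetI false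
set_option maxHeartbeats 1000000

universe u

open CategoryTheory CategoryTheory.Limits AlgebraicGeometry TopologicalSpace Opposite
open Groth.Agent.PullbackMod Groth.Agent.LefEtaleLib

noncomputable section

namespace Groth.Agent.LeffEtLib

variable {U : Scheme.{u}} (𝒟 : Datum U)

theorem secMap_appLE {W X T : Scheme.{u}} {π : W ⟶ X} {g : T ⟶ X} (s : T ⟶ W) (h : s ≫ π = g)
    (e : ∀ V : X.Opens, g ⁻¹ᵁ V ≤ s ⁻¹ᵁ (π ⁻¹ᵁ V)) (V : X.Opens) (b : Γ(W, π ⁻¹ᵁ V)) :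
    (secMap s h).app V b = s.appLE (π ⁻¹ᵁ V) (g ⁻¹ᵁ V) (e V) b := by
  subst h
  refine (secMap_app_self s V b).trans ?_
  rw [Scheme.Hom.app_eq_appLE]
  rfl

/-- The sections of the algebraizing module. -/
def Datum.Sec (V : U.Opens) : Type u := Γ(𝒟.E, V)

instance (V : U.Opens) : AddCommGroup (𝒟.Sec V) := inferInstanceAs (AddCommGroup Γ(𝒟.E, V))

instance (V : U.Opens) : CommRing (𝒟.Sec V) :=
  letI : Mul (𝒟.Sec V) := ⟨fun a b => 𝒟.mul V a b⟩
  letI : One (𝒟.Sec V) := ⟨𝒟.one V⟩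
  { (inferInstance : AddCommGroup (𝒟.Sec V)) with
    left_distrib := fun a b c => 𝒟.mul_add_right V a b c
    right_distrib := fun a b c => 𝒟.mul_add_left V a b c
    zero_mul := fun a => by
      show 𝒟.mul V 0 a = 0
      have := 𝒟.mul_add_left V 0 0 a
      rwa [add_zero, left_eq_add] at this
    mul_zero := fun a => by
      show 𝒟.mul V a 0 = 0
      have := 𝒟.mul_add_right V a 0 0
      rwa [add_zero, left_eq_add] at this
    mul_assoc := fun a b c => 𝒟.mul_assoc V a b c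
    one_mul := fun a => 𝒟.one_mul V a
    mul_one := fun a => (𝒟.mul_comm V a _).trans (𝒟.one_mul V a)
    mul_comm := fun a b => 𝒟.mul_comm V a b }

/-- The presheaf of rings. -/
def Datum.ringPresheaf : TopCat.Presheaf CommRingCat.{u} U.carrier where
  obj V := CommRingCat.of (𝒟.Sec V.unop)
  map {V W} i := CommRingCat.ofHom
    { toFun := fun a => 𝒟.E.presheaf.map i a
      map_one' := 𝒟.one_res i.unop
      map_mul' := fun a b => (𝒟.mul_res i.unop a b).symm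
      map_zero' := map_zero (𝒟.E.presheaf.map i).hom
      map_add' := fun a b => map_add (𝒟.E.presheaf.map i).hom a b }
  map_id V := CommRingCat.hom_ext (RingHom.ext fun a => ConcreteCategory.congr_hom (𝒟.E.presheaf.map_id V) a)
  map_comp i i' := CommRingCat.hom_ext (RingHom.ext fun a =>
    ConcreteCategory.congr_hom (𝒟.E.presheaf.map_comp i i') a)

theorem Datum.ringPresheaf_isSheaf : 𝒟.ringPresheaf.IsSheaf := by
  refine (CategoryTheory.Presheaf.isSheaf_iff_isSheaf_forget _ _ (CategoryTheory.forget CommRingCat.{u})).2 ?_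
  exact (CategoryTheory.Presheaf.isSheaf_iff_isSheaf_forget _ _ (CategoryTheory.forget AddCommGrpCat.{u})).1 𝒟.E.isSheaf

theorem Datum.η_app (V : U.Opens) (r : Γ(U, V)) :
    𝒟.η.app V (show Γ(Coh.structureModule U, V) from r) = r • 𝒟.one V := by
  refine Eq.trans ?_ (Scheme.Modules.Hom.app_smul 𝒟.η r _)
  exact congrArg (𝒟.η.app V) (mul_one r).symm

/-- The structure map. -/
def Datum.str : U.presheaf ⟶ 𝒟.ringPresheaf where
  app V := CommRingCat.ofHom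
    { toFun := fun r => 𝒟.η.app V.unop r
      map_one' := rfl
      map_mul' := fun r s => by
        show 𝒟.η.app V.unop (r * s : Γ(U, V.unop)) = 𝒟.mul V.unop (𝒟.η.app V.unop r) (𝒟.η.app V.unop s)
        rw [η_app, η_app, η_app, mul_smul_left, one_mul, mul_smul]
      map_zero' := map_zero (𝒟.η.app V.unop).hom
      map_add' := fun r s => map_add (𝒟.η.app V.unop).hom r s }
  naturality V W i := CommRingCat.hom_ext (RingHom.ext fun r =>
    ConcreteCategory.congr_hom (𝒟.η.mapPresheaf.naturality i) r)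

theorem Datum.str_mul (V : U.Opens) (r : Γ(U, V)) (a : 𝒟.Sec V) :
    (show 𝒟.Sec V from (𝒟.str.app (op V)).hom r) * a = (r • (show Γ(𝒟.E, V) from a) : Γ(𝒟.E, V)) := by
  show 𝒟.mul V (𝒟.η.app V r) _ = _
  rw [η_app, mul_smul_left, one_mul]

theorem Datum.isQC : RelSpec.IsQC 𝒟.ringPresheaf 𝒟.str := by
  intro V hV r
  haveI := (PullbackMod.isQCoh_and_isFP_of_isFinLocFree 𝒟.E 𝒟.hE).1
  have hL := QCohLib.locAt 𝒟.E hV
  letI := (𝒟.ringPresheaf.map (homOfLE (U.basicOpen_le r)).op).hom.toAlgebra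
  have hnat : ∀ a : Γ(U, V), 𝒟.ringPresheaf.map (homOfLE (U.basicOpen_le r)).op ((𝒟.str.app (op V)).hom a) =
      (𝒟.str.app (op (U.basicOpen r))).hom (U.presheaf.map (homOfLE (U.basicOpen_le r)).op a) := fun a =>
    (congrArg (fun ψ : U.presheaf.obj (op V) ⟶ 𝒟.ringPresheaf.obj (op (U.basicOpen r)) => ψ.hom a)
      (𝒟.str.naturality (homOfLE (U.basicOpen_le r)).op)).symm
  refine IsLocalization.Away.mk (S := 𝒟.ringPresheaf.obj (op (U.basicOpen r))) ((𝒟.str.app (op V)).hom r) ?_ ?_ ?_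
  · show IsUnit (𝒟.ringPresheaf.map (homOfLE (U.basicOpen_le r)).op ((𝒟.str.app (op V)).hom r))
    rw [hnat]
    haveI := hV.isLocalization_basicOpen r
    exact (IsLocalization.Away.algebraMap_isUnit (S := Γ(U, U.basicOpen r)) r).map _
  · intro z
    obtain ⟨n, s, hs⟩ := hL.extend r z
    refine ⟨n, s, ?_⟩
    show (z : 𝒟.Sec (U.basicOpen r)) * (𝒟.ringPresheaf.map (homOfLE (U.basicOpen_le r)).op
      ((𝒟.str.app (op V)).hom r)) ^ n = 𝒟.ringPresheaf.map (homOfLE (U.basicOpen_le r)).op s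
    refine Eq.trans ?_ hs.symm
    rw [← map_pow, ← map_pow, hnat, _root_.mul_comm, CohBase.sc_apply]
    exact 𝒟.str_mul _ _ z
  · intro a b hab
    have hz : 𝒟.E.presheaf.map (homOfLE (U.basicOpen_le r)).op (show Γ(𝒟.E, V) from (a - b : 𝒟.Sec V)) = 0 := by
      show (𝒟.ringPresheaf.map (homOfLE (U.basicOpen_le r)).op).hom (a - b : 𝒟.Sec V) = 0
      rw [map_sub]
      exact sub_eq_zero.mpr hab
    obtain ⟨n, hn⟩ := hL.kill r _ hz
    refine ⟨n, sub_eq_zero.mp ?_⟩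
    rw [← mul_sub, ← map_pow]
    rw [CohBase.sc_apply] at hn
    refine Eq.trans ?_ hn
    refine (𝒟.str_mul V _ (a - b : 𝒟.Sec V)).trans ?_
    simp

/-- The quasi-coherent algebra. -/
def Datum.alg : RelSpec.QCAlg U where
  presheaf := 𝒟.ringPresheaf
  isSheaf := 𝒟.ringPresheaf_isSheaf
  str := 𝒟.str
  isQC := 𝒟.isQC

/-- The evaluation in a member of the family. -/
def Datum.ω (n : ℕ) : 𝒟.ringPresheaf ⟶ (𝒟.q n).base _* (𝒟.R n).presheaf where
  app V := CommRingCat.ofHom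
    { toFun := fun a => (𝒟.θ n).app V.unop a
      map_one' := 𝒟.θ_one n V.unop
      map_mul' := fun a b => 𝒟.θ_mul n V.unop a b
      map_zero' := map_zero ((𝒟.θ n).app V.unop).hom
      map_add' := fun a b => map_add ((𝒟.θ n).app V.unop).hom a b }
  naturality V W i := CommRingCat.hom_ext (RingHom.ext fun r =>
    ConcreteCategory.congr_hom ((𝒟.θ n).mapPresheaf.naturality i) r)

theorem Datum.str_ω (n : ℕ) : 𝒟.str ≫ 𝒟.ω n = (𝒟.q n).c := by
  refine NatTrans.ext (funext fun V => CommRingCat.hom_ext (RingHom.ext fun r => ?_))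
  exact ConcreteCategory.congr_hom (congrArg (fun f => Scheme.Modules.Hom.app f V.unop) (𝒟.η_θ n)) r

/-- The sections of the relative spectrum. -/
def Datum.γ : 𝒟.ringPresheaf ⟶ 𝒟.alg.π.base _* 𝒟.alg.spec.presheaf :=
  haveI := SpecQCAlg.isIso_gammaMap 𝒟.alg
  inv 𝒟.alg.gammaMap

theorem Datum.str_γ : 𝒟.str ≫ 𝒟.γ = 𝒟.alg.π.c := by
  haveI := SpecQCAlg.isIso_gammaMap 𝒟.alg
  exact (IsIso.comp_inv_eq _).2 𝒟.alg.π_c_gammaMap.symm

theorem Datum.γ_smul (V : U.Opens) (r : Γ(U, V)) (a : Γ(𝒟.E, V)) :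
    (𝒟.γ.app (op V)).hom (show 𝒟.Sec V from (r • a : Γ(𝒟.E, V))) =
      (show Γ(𝒟.alg.spec, 𝒟.alg.π ⁻¹ᵁ V) from 𝒟.alg.π.app V r) *
        (show Γ(𝒟.alg.spec, 𝒟.alg.π ⁻¹ᵁ V) from (𝒟.γ.app (op V)).hom a) := by
  rw [← 𝒟.str_mul]
  refine (map_mul (𝒟.γ.app (op V)).hom _ _).trans ?_
  refine congrArg (fun t : Γ(𝒟.alg.spec, 𝒟.alg.π ⁻¹ᵁ V) => t * _) ?_
  exact ConcreteCategory.congr_hom (NatTrans.congr_app 𝒟.str_γ (op V)) r

/-- The module of the relative spectrum. -/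
def Datum.toPush : 𝒟.E ⟶ pushO 𝒟.alg.π :=
  ⟨PresheafOfModules.homMk
    { app := fun V => AddCommGrpCat.ofHom (𝒟.γ.app V).hom.toAddMonoidHom
      naturality := fun V W i => AddCommGrpCat.hom_ext (AddMonoidHom.ext fun a =>
        ConcreteCategory.congr_hom (𝒟.γ.naturality i) a) }
    fun V r a => 𝒟.γ_smul V.unop r a⟩

theorem Datum.toPush_app (V : U.Opens) (a : Γ(𝒟.E, V)) :
    𝒟.toPush.app V a = (𝒟.γ.app (op V)).hom a := rfl

theorem Datum.isIso_toPush : IsIso 𝒟.toPush := by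
  haveI := SpecQCAlg.isIso_gammaMap 𝒟.alg
  haveI : IsIso 𝒟.γ := inferInstanceAs (IsIso (inv 𝒟.alg.gammaMap))
  exact FormalLib.isIso_of_affine _ fun V _ => ConcreteCategory.bijective_of_isIso (𝒟.γ.app (op V))

theorem Datum.γ_lift (n : ℕ) (V : U.Opens) (a : 𝒟.Sec V) :
    (RelSpecLib.lift 𝒟.alg (𝒟.q n) (𝒟.ω n)).appLE (𝒟.alg.π ⁻¹ᵁ V) (𝒟.q n ⁻¹ᵁ V)
      (RelSpecLib.preimage_le 𝒟.alg (𝒟.q n) (RelSpecLib.lift_π 𝒟.alg (𝒟.q n) (𝒟.ω n) (𝒟.str_ω n)) V)
      ((𝒟.γ.app (op V)).hom a) = (𝒟.θ n).app V a := by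
  have h1 := RelSpecLib.algMap_lift 𝒟.alg (𝒟.q n) (𝒟.ω n) (𝒟.str_ω n)
  rw [← RelSpecLib.algHom_app 𝒟.alg (𝒟.q n) _ (RelSpecLib.lift_π 𝒟.alg (𝒟.q n) (𝒟.ω n) (𝒟.str_ω n)) V]
  exact ConcreteCategory.congr_hom (NatTrans.congr_app h1 (op V)) a

theorem Datum.exists_pushIso : ∃ e : 𝒟.E ≅ pushO 𝒟.alg.π, ∀ (n : ℕ),
    e.hom ≫ secMap (RelSpecLib.lift 𝒟.alg (𝒟.q n) (𝒟.ω n))
      (RelSpecLib.lift_π 𝒟.alg (𝒟.q n) (𝒟.ω n) (𝒟.str_ω n)) = 𝒟.θ n := by
  haveI := 𝒟.isIso_toPush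
  refine ⟨asIso 𝒟.toPush, fun n =>
    Scheme.Modules.hom_ext _ _ fun V => AddCommGrpCat.hom_ext (AddMonoidHom.ext fun a => ?_)⟩
  rw [asIso_hom, Scheme.Modules.Hom.comp_app]
  refine (congrArg ((secMap (RelSpecLib.lift 𝒟.alg (𝒟.q n) (𝒟.ω n))
    (RelSpecLib.lift_π 𝒟.alg (𝒟.q n) (𝒟.ω n) (𝒟.str_ω n))).app V) (𝒟.toPush_app V a)).trans ?_
  refine Eq.trans ?_ (𝒟.γ_lift n V a)
  exact secMap_appLE (RelSpecLib.lift 𝒟.alg (𝒟.q n) (𝒟.ω n))
    (RelSpecLib.lift_π 𝒟.alg (𝒟.q n) (𝒟.ω n) (𝒟.str_ω n))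
    (fun V => RelSpecLib.preimage_le 𝒟.alg (𝒟.q n) (RelSpecLib.lift_π 𝒟.alg (𝒟.q n) (𝒟.ω n) (𝒟.str_ω n)) V)
    V ((𝒟.γ.app (op V)).hom a)

/-- The scheme of an algebraized family: finite locally free over the base, restricting to the bottom member. -/
theorem Datum.exists_scheme (g : 𝒟.R 0 ⟶ (𝒟.J ^ (0 + 1)).subscheme) [IsAffineHom g]
    (hg : g ≫ (𝒟.J ^ (0 + 1)).subschemeι = 𝒟.q 0) :
    ∃ (W : Scheme.{u}) (p : W ⟶ U) (h : 𝒟.R 0 ⟶ W), Mor2.IsFinLocFree p ∧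
      IsPullback h g p (𝒟.J ^ (0 + 1)).subschemeι := by
  let k := (𝒟.J ^ (0 + 1)).subschemeι
  let π := 𝒟.alg.π
  obtain ⟨e, he⟩ := 𝒟.exists_pushIso
  let h := RelSpecLib.lift 𝒟.alg (𝒟.q 0) (𝒟.ω 0)
  have hh : h ≫ π = 𝒟.q 0 := RelSpecLib.lift_π 𝒟.alg (𝒟.q 0) (𝒟.ω 0) (𝒟.str_ω 0)
  haveI hEq := (PullbackMod.isQCoh_and_isFP_of_isFinLocFree 𝒟.E 𝒟.hE).1
  haveI : IsAffineHom k := inferInstance
  let P := pullback π k
  let a : P ⟶ 𝒟.alg.spec := pullback.fst π k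
  let b : P ⟶ (𝒟.J ^ (0 + 1)).subscheme := pullback.snd π k
  have hab : IsPullback a b π k := IsPullback.of_hasPullback π k
  haveI := isIso_pullPush hab
  haveI : IsAffineHom b := MorphismProperty.of_isPullback hab (inferInstanceAs (IsAffineHom 𝒟.alg.π))
  let χ : 𝒟.E ⟶ pushO (b ≫ k) := e.hom ≫ secMap a hab.w
  have hχ : ∀ x, Function.Surjective (stalkLin χ x) ∧
      LinearMap.ker (stalkLin χ x) = IntMult.stalkIdeal (𝒟.J ^ (0 + 1)) x • ⊤ := fun x => by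
    have h1 := stalk_homEquiv_iso k 𝒟.E ((Scheme.Modules.pullback k).mapIso e ≪≫ asIso (pullPush hab.w)) x
    rw [Scheme.IdealSheafData.ker_subschemeι, Iso.trans_hom, Functor.mapIso_hom, asIso_hom,
      Adjunction.homEquiv_naturality_left, pullPush, Equiv.apply_symm_apply, pushSquare, stalkLin_comp,
      stalkLin_comp] at h1
    have hb : Function.Bijective
        (stalkLin ((Scheme.Modules.pushforwardComp b k).inv.app (Coh.structureModule P)) x) :=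
      (isIso_iff_stalk _).1 inferInstance x
    obtain ⟨h2, h3⟩ := h1
    rw [show χ = e.hom ≫ secMap a hab.w from rfl, stalkLin_comp]
    refine ⟨fun y => ?_, ?_⟩
    · obtain ⟨z, hz⟩ := h2 ((stalkLin ((Scheme.Modules.pushforwardComp b k).inv.app _) x) y)
      exact ⟨z, hb.1 hz⟩
    · rw [← h3, LinearMap.comp_assoc, LinearMap.ker_comp_of_ker_eq_bot _ (LinearMap.ker_eq_bot.2 hb.1)]
  have hw : h ≫ π = g ≫ k := hh.trans hg.symm
  let c : 𝒟.R 0 ⟶ P := hab.lift h g hw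
  have hca : c ≫ a = h := hab.lift_fst _ _ _
  have hcb : c ≫ b = g := hab.lift_snd _ _ _
  have hcq : c ≫ b ≫ k = 𝒟.q 0 := by rw [← Category.assoc, hcb, hg]
  let σ : pushO (b ≫ k) ⟶ 𝒟.A 0 := secMap c hcq
  have hχσ : χ ≫ σ = 𝒟.θ 0 := by
    refine (Category.assoc _ _ _).trans ?_
    rw [secMap_comp, secMap_congr hca _ hh]
    exact he 0
  haveI : IsIso σ := (isIso_iff_stalk σ).2 fun x => by
    have hθ := 𝒟.θ_stalk 0 x
    rw [← hχσ, stalkLin_comp] at hθ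
    refine ⟨(injective_iff_map_eq_zero _).2 fun z hz => ?_, Function.Surjective.of_comp hθ.1⟩
    obtain ⟨y, rfl⟩ := (hχ x).1 z
    have hy : y ∈ LinearMap.ker ((stalkLin σ x).comp (stalkLin χ x)) := hz
    rw [hθ.2, ← (hχ x).2] at hy
    exact hy
  haveI : IsIso c := DefGlueLib.isIso_of_affine c fun z => by
    obtain ⟨_, ⟨V : U.Opens, hV, rfl⟩, hz, -⟩ :=
      U.isBasis_affineOpens.exists_subset_of_mem_open (a := (b ≫ k) z) (Set.mem_univ _) isOpen_univ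
    have hq : IsAffineHom (𝒟.q 0) := hg ▸ inferInstance
    refine ⟨(b ≫ k) ⁻¹ᵁ V, hz, hV.preimage _, ?_, ?_⟩
    · rw [← Scheme.Hom.comp_preimage, hcq]
      exact hV.preimage _
    · haveI : IsIso (σ.app V) := inferInstance
      have hb : Function.Bijective (σ.app V) := ConcreteCategory.bijective_of_isIso _
      refine (ConcreteCategory.isIso_iff_bijective _).2 ?_
      have he' : 𝒟.q 0 ⁻¹ᵁ V = c ⁻¹ᵁ ((b ≫ k) ⁻¹ᵁ V) := by rw [← Scheme.Hom.comp_preimage, hcq]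
      refine (Function.Bijective.of_comp_iff'
        (ConcreteCategory.bijective_of_isIso ((𝒟.R 0).presheaf.map (eqToHom he').op)) _).1 ?_
      have key := fun s => secMap_app c hcq V s
      exact ⟨fun s t h => hb.1 ((key s).trans (h.trans (key t).symm)),
        fun y => (hb.2 y).imp fun s hs => (key s).symm.trans hs⟩
  refine ⟨_, π, h, FinLocFreeLib.isFinLocFree_of_push _ (DCohLib.isFinLocFree_iso e 𝒟.hE), ?_⟩
  refine hab.of_iso (asIso c).symm (Iso.refl _) (Iso.refl _) (Iso.refl _) ?_ ?_ ?_ ?_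
  · rw [Iso.symm_hom, asIso_inv, Iso.refl_hom, Category.comp_id, IsIso.eq_inv_comp, hca]
  · rw [Iso.symm_hom, asIso_inv, Iso.refl_hom, Category.comp_id, IsIso.eq_inv_comp, hcb]
  · simp [π]
  · simp [k]

end Groth.Agent.LeffEtLib
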