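import Groth.Agent.FlatLocus.SmoothFibres
import Groth.Agent.BCLib.EtaleNbhd
import Groth.Agent.FlatLocus.PointScheme

/-!
# Finite flat schemes étale over a closed subscheme are étale near it
-/

set_option autoImplicit false
set_option linter.style.haveILetI false
set_option backward.isDefEq.respectTransparency false
set_option backward.defeqAttrib.useBackward true

universe u

open CategoryTheory CategoryTheory.Limits AlgebraicGeometry IsLocalRing Groth.Agent.FlatLocus

noncomputable section

namespace Groth.Agent.LeffEtLib

/-- The stalk map is unramified at a point where the fibre is. -/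
theorem formallyUnramified_stalk_of_fibre {X Y : Scheme.{u}} (f : X ⟶ Y) [LocallyOfFiniteType f] (x : X)
    (h : FormallyUnramified (f.fiberToSpecResidueField (f x))) : (f.stalkMap x).hom.FormallyUnramified := by
  let y := f x
  let z := f.asFiber x
  let w := f.fiberToSpecResidueField y z
  let φ := toFiberStalk f y z x (Scheme.Hom.fiberι_asFiber f x)
  obtain ⟨hφs, hφk⟩ := toFiberStalk_spec f y z x (Scheme.Hom.fiberι_asFiber f x)
  haveI : FormallyUnramified (f.fiberToSpecResidueField y) := h
  letI : Algebra (Y.presheaf.stalk y) (X.presheaf.stalk x) := (f.stalkMap x).hom.toAlgebra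
  haveI : Algebra.EssFiniteType (Y.presheaf.stalk y) (X.presheaf.stalk x) :=
    LocallyOfFiniteType.stalkMap f x
  haveI : IsLocalHom (algebraMap (Y.presheaf.stalk y) (X.presheaf.stalk x)) := f.toLRSHom.prop x
  let F := (f.fiber y).presheaf.stalk z
  let K := (Spec (Y.residueField y)).presheaf.stalk w
  have hK : IsField K := by
    have hw : w = closedPoint (Y.residueField y) := f.fiberToSpecResidueField_apply y z
    show IsField ((Spec (Y.residueField y)).presheaf.stalk w)
    rw [hw]
    exact MulEquiv.isField (Field.toIsField (Y.residueField y))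
      (stalkClosedPointIso (Y.residueField y)).commRingCatIsoToRingEquiv.toMulEquiv
  letI := hK.toField
  letI : Algebra K F := ((f.fiberToSpecResidueField y).stalkMap z).hom.toAlgebra
  haveI : LocallyOfFiniteType (f.fiberToSpecResidueField y) :=
    MorphismProperty.pullback_snd _ _ ‹_›
  haveI : Algebra.EssFiniteType K F := LocallyOfFiniteType.stalkMap (f.fiberToSpecResidueField y) z
  haveI : Algebra.FormallyUnramified K F :=
    FormallyUnramified.stalkMap (f.fiberToSpecResidueField y) z
  haveI : IsLocalHom (algebraMap K F) := (f.fiberToSpecResidueField y).toLRSHom.prop z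
  have hF : maximalIdeal F = ⊥ := by
    rw [← Algebra.FormallyUnramified.map_maximalIdeal (R := K) (S := F),
      (IsLocalRing.isField_iff_maximalIdeal_eq.mp hK), Ideal.map_bot]
  have hker : RingHom.ker φ.hom = maximalIdeal (X.presheaf.stalk x) := by
    haveI : IsLocalHom φ.hom := IsLocalHom.of_surjective φ.hom hφs
    refine le_antisymm (fun a ha => ?_) fun a ha => ?_
    · exact IsLocalRing.le_maximalIdeal (RingHom.ker_ne_top φ.hom) ha
    · rw [RingHom.mem_ker, ← Submodule.mem_bot (R := F), ← hF]
      exact map_nonunit φ.hom a ha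
  have hm : (maximalIdeal (Y.presheaf.stalk y)).map (algebraMap (Y.presheaf.stalk y)
      (X.presheaf.stalk x)) = maximalIdeal (X.presheaf.stalk x) := by
    rw [← hker, hφk]
    rfl
  let ψ : Y.presheaf.stalk y →+* F := φ.hom.comp (f.stalkMap x).hom
  have hψ : ψ.FormallyUnramified := by
    have key : ∀ (g : f.fiber y ⟶ Y), g = f.fiberToSpecResidueField y ≫ Y.fromSpecResidueField y →
        (g.stalkMap z).hom.FormallyUnramified := by
      rintro g rfl
      haveI : FormallyUnramified (f.fiberToSpecResidueField y ≫ Y.fromSpecResidueField y) :=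
        MorphismProperty.comp_mem _ _ _ h inferInstance
      exact FormallyUnramified.stalkMap _ z
    have h1 := key (f.fiberι y ≫ f) (f.fiber_fac y)
    have key2 : ∀ (x' : X) (hx' : f.fiberι y z = x'), ((f.fiberι y ≫ f).stalkMap z).hom.FormallyUnramified →
        ((toFiberStalk f y z x' hx').hom.comp (f.stalkMap x').hom).FormallyUnramified := by
      rintro x' rfl h'
      rw [← CommRingCat.hom_comp]
      simpa [toFiberStalk, Scheme.Hom.stalkMap_comp] using h'
    exact key2 x _ h1
  letI : Algebra (Y.presheaf.stalk y) F := ψ.toAlgebra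
  haveI : Algebra.FormallyUnramified (Y.presheaf.stalk y) F := hψ
  let e : (X.presheaf.stalk x ⧸ maximalIdeal (X.presheaf.stalk x)) ≃ₐ[Y.presheaf.stalk y] F :=
    AlgEquiv.ofBijective (Ideal.Quotient.liftₐ (maximalIdeal (X.presheaf.stalk x))
      { φ.hom with commutes' := fun r => rfl } fun a ha => by
        show φ.hom a = 0
        rw [← RingHom.mem_ker, hker]; exact ha)
      ⟨RingHom.lift_injective_of_ker_le_ideal _ _ (le_of_eq hker), fun c => by
        obtain ⟨a, rfl⟩ := hφs c
        exact ⟨Ideal.Quotient.mk _ a, rfl⟩⟩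
  haveI h5 : Algebra.FormallyUnramified (Y.presheaf.stalk y) (ResidueField (X.presheaf.stalk x)) :=
    Algebra.FormallyUnramified.of_equiv e.symm
  haveI : Algebra.FormallyUnramified (ResidueField (Y.presheaf.stalk y))
      (ResidueField (X.presheaf.stalk x)) :=
    Algebra.FormallyUnramified.of_restrictScalars (Y.presheaf.stalk y) _ _
  haveI : Algebra.EssFiniteType (Y.presheaf.stalk y) (ResidueField (X.presheaf.stalk x)) :=
    Algebra.EssFiniteType.comp _ (X.presheaf.stalk x) _
  haveI : Algebra.EssFiniteType (ResidueField (Y.presheaf.stalk y))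
      (ResidueField (X.presheaf.stalk x)) :=
    Algebra.EssFiniteType.of_comp (Y.presheaf.stalk y) _ _
  haveI : Algebra.IsSeparable (ResidueField (Y.presheaf.stalk y))
      (ResidueField (X.presheaf.stalk x)) := Algebra.FormallyUnramified.isSeparable _ _
  exact Algebra.FormallyUnramified.of_map_maximalIdeal hm

/-- A finite flat scheme étale over a closed subscheme is étale over a neighbourhood of it. -/
theorem exists_etale_nhd_closed {W U Y R : Scheme.{u}} (p : W ⟶ U) [IsFinite p] [Flat p]
    [LocallyOfFinitePresentation p] (k : Y ⟶ U) [IsClosedImmersion k] {h : R ⟶ W} {g : R ⟶ Y}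
    (hc : IsPullback h g p k) [Etale g] :
    ∃ V : U.Opens, Set.range k ⊆ (V : Set U) ∧ Etale (p ∣_ V) := by
  let O : W.Opens := unramOpens p
  let V : U.Opens := ⟨(p '' (O : Set W)ᶜ)ᶜ, (p.isClosedMap _ O.2.isClosed_compl).isOpen_compl⟩
  refine ⟨V, ?_, ?_⟩
  · rintro _ ⟨y, rfl⟩ ⟨w, hw, hwy⟩
    refine hw ?_
    show (p.stalkMap w).hom.FormallyUnramified
    refine formallyUnramified_stalk_of_fibre p w ?_
    rw [hwy]
    haveI := BCLib.isIso_residueFieldMap_of_mono k y
    let r : g.fiber y ⟶ p.fiber (k y) := pullback.map g (Y.fromSpecResidueField y) p (U.fromSpecResidueField (k y)) h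
      (Spec.map (k.residueFieldMap y)) k hc.w.symm (by simp)
    have hr : IsPullback r (g.fiberToSpecResidueField y) (p.fiberToSpecResidueField (k y))
        (Spec.map (k.residueFieldMap y)) := isPullback_fiberToSpecResidueField_of_isPullback hc y
    haveI : IsIso r := hr.isIso_fst_of_isIso
    haveI : FormallyUnramified (g.fiberToSpecResidueField y) := MorphismProperty.pullback_snd _ _ inferInstance
    rw [show p.fiberToSpecResidueField (k y) = inv r ≫ g.fiberToSpecResidueField y ≫ Spec.map (k.residueFieldMap y) by
      rw [IsIso.eq_inv_comp]; exact hr.w]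
    exact MorphismProperty.comp_mem _ _ _ inferInstance (MorphismProperty.comp_mem _ _ _ inferInstance inferInstance)
  · haveI : FormallyUnramified (O.ι ≫ p) :=
      HasRingHomProperty.of_stalkMap (P := @FormallyUnramified)
        RingHom.FormallyUnramified.ofLocalizationPrime fun u =>
          (stalkMap_ι_comp_iff p RingHom.FormallyUnramified.respectsIso _ u).mpr u.2
    haveI : Etale (O.ι ≫ p) := Etale.of_formallyUnramified_of_flat _
    have hle : p ⁻¹ᵁ V ≤ O := fun w hw => not_not.1 fun hc' => hw ⟨w, hc', rfl⟩
    haveI : Etale (p ∣_ V ≫ V.ι) := by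
      rw [morphismRestrict_ι, ← W.homOfLE_ι hle, Category.assoc]
      infer_instance
    exact Etale.of_comp (p ∣_ V) V.ι

end Groth.Agent.LeffEtLib
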