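import Groth.Agent.LeffEtLib.Level
import Groth.Agent.LeffEtLib.Spec
import Groth.Agent.LeffEtLib.Unram

/-!
# Algebraization of the finite étale covers of a closed subscheme
-/

set_option autoImplicit false
set_option backward.isDefEq.respectTransparency false
set_option linter.style.haveILetI false
set_option maxHeartbeats 1000000

universe u

open CategoryTheory CategoryTheory.Limits AlgebraicGeometry TopologicalSpace Opposite

noncomputable section

namespace Groth.Agent.LeffEtLib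

variable {X : Scheme.{u}} (I : X.IdealSheafData)

/-- A levelwise locally free algebraization gives a finite locally free extension of a finite étale cover. -/
theorem exists_finLocFree_extension (R : FEt.Cat I.subscheme)
    (Rn : ∀ n, FEt.Cat ((FSch.completionAlong X I).X n)) (j : ∀ n, (Rn n).left ⟶ (Rn (n + 1)).left)
    (hj : ∀ n, IsPullback (j n) (Rn n).hom (Rn (n + 1)).hom ((FSch.completionAlong X I).ι n))
    (b : R.left ⟶ (Rn 0).left) (hb : IsPullback b R.hom (Rn 0).hom (LefEtaleLib.incl I 0))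
    (U : X.Opens) (hU : (I.support : Set X) ⊆ (U : Set X)) {F : X.Modules}
    (Φ : FSch.completionMod I F ≅ towerSys Rn j hj)
    (hF : FlatMod.IsFinLocFree ((Scheme.Modules.pullback U.ι).obj F))
    (hP : ∀ D : (U : Scheme.{u}).Modules, FlatMod.IsFinLocFree D → Lef.HomToFormalBijective (I.comap U.ι) D) :
    ∃ (W : Scheme.{u}) (p : W ⟶ (U : Scheme.{u})), Mor2.IsFinLocFree p ∧
      ∀ i : I.subscheme ⟶ (U : Scheme.{u}), i ≫ U.ι = I.subschemeι → ∃ h : R.left ⟶ W, IsPullback h R.hom p i := by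
  choose g hg using LefPicLib.exists_lift_thickening (I := I) U hU
  have hι : ∀ n, (FSch.completionAlong X I).ι n ≫ g (n + 1) = g n := fun n => by
    rw [← cancel_mono U.ι, Category.assoc, hg, hg]
    exact ι_completionToX I n
  have w : ∀ n, j n ≫ (Rn (n + 1)).hom ≫ g (n + 1) = (Rn n).hom ≫ g n := fun n =>
    (Category.assoc _ _ _).symm.trans ((congrArg (· ≫ g (n + 1)) (hj n).w).trans
      ((Category.assoc _ _ _).trans (congrArg ((Rn n).hom ≫ ·) (hι n))))
  obtain ⟨θ, hθ, hθs⟩ := exists_theta Rn j hj U Φ (PullbackMod.isQCoh_and_isFP_of_isFinLocFree _ hF).1 g hg w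
  let 𝒟 : Datum (U : Scheme.{u}) :=
    { J := I.comap U.ι, R := fun n => (Rn n).left, q := fun n => (Rn n).hom ≫ g n, j := j, w := w
      E := (Scheme.Modules.pullback U.ι).obj F, hE := hF, θ := θ, θ_comp := hθ, θ_stalk := hθs, hP := hP }
  haveI : IsClosedImmersion (g 0 ≫ U.ι) :=
    (hg 0).symm ▸ inferInstanceAs (IsClosedImmersion (I ^ (0 + 1)).subschemeι)
  haveI : IsClosedImmersion (g 0) := IsClosedImmersion.of_comp (g 0) U.ι
  obtain ⟨σ, hσ⟩ := LefPicLib.exists_from_thickening I U 0 (g 0) (hg 0)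
  obtain ⟨t, ht⟩ := LefPicLib.exists_to_thickening I U 0
  have htg : t ≫ g 0 = ((I.comap U.ι) ^ (0 + 1)).subschemeι := by
    rw [← cancel_mono U.ι, Category.assoc, hg]
    exact ht
  haveI : IsIso σ := ⟨t, by rw [← cancel_mono (g 0), Category.assoc, htg, hσ, Category.id_comp],
    by rw [← cancel_mono ((I.comap U.ι) ^ (0 + 1)).subschemeι, Category.assoc, hσ, htg, Category.id_comp]⟩
  haveI : IsFinite (Rn 0).hom := (Rn 0).prop.1
  haveI : IsAffineHom ((Rn 0).hom ≫ σ) := inferInstance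
  obtain ⟨W, p, h, hp, hc⟩ := 𝒟.exists_scheme ((Rn 0).hom ≫ σ) (by
    show ((Rn 0).hom ≫ σ) ≫ ((I.comap U.ι) ^ (0 + 1)).subschemeι = (Rn 0).hom ≫ g 0
    rw [Category.assoc, hσ])
  have hc' : IsPullback h (Rn 0).hom p (g 0) := by
    refine hc.of_iso (Iso.refl _) (Iso.refl _) (asIso σ).symm (Iso.refl _) ?_ ?_ ?_ ?_
    · simp
    · simp
    · simp
    · rw [Iso.symm_hom, asIso_inv, Iso.refl_hom, Category.comp_id]
      exact ((IsIso.inv_comp_eq σ).2 hσ.symm).symm
  refine ⟨W, p, hp, fun i hi => ⟨b ≫ h, ?_⟩⟩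
  have hi' : LefEtaleLib.incl I 0 ≫ g 0 = i := by
    rw [← cancel_mono U.ι, Category.assoc, hg, hi]
    exact LefEtaleLib.incl_ι I 0
  rw [← hi']
  exact hb.paste_horiz hc'

/-- A finite locally free extension restricts to a finite étale one near the closed subscheme. -/
theorem exists_etale_extension (R : FEt.Cat I.subscheme) (U : X.Opens) (hU : (I.support : Set X) ⊆ (U : Set X))
    {W : Scheme.{u}} (p : W ⟶ (U : Scheme.{u})) (hp : Mor2.IsFinLocFree p)
    (hc : ∀ i : I.subscheme ⟶ (U : Scheme.{u}), i ≫ U.ι = I.subschemeι → ∃ h : R.left ⟶ W, IsPullback h R.hom p i) :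
    ∃ V : (U : Scheme.{u}).Opens, (I.support : Set X) ⊆ (U.ι ''ᵁ V : Set X) ∧ Etale (p ∣_ V) := by
  obtain ⟨_, _, _⟩ := hp
  let i : I.subscheme ⟶ (U : Scheme.{u}) := IsOpenImmersion.lift U.ι I.subschemeι (by
    rw [Scheme.Opens.range_ι, Scheme.IdealSheafData.range_subschemeι]; exact hU)
  have hi : i ≫ U.ι = I.subschemeι := IsOpenImmersion.lift_fac _ _ _
  obtain ⟨h, hh⟩ := hc i hi
  haveI : IsClosedImmersion (i ≫ U.ι) := hi.symm ▸ inferInstance
  haveI : IsClosedImmersion i := IsClosedImmersion.of_comp i U.ι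
  haveI : Etale R.hom := R.prop.2
  obtain ⟨V, hV, hVe⟩ := exists_etale_nhd_closed p i hh
  refine ⟨V, fun x hx => ?_, hVe⟩
  obtain ⟨y, rfl⟩ : x ∈ Set.range I.subschemeι := by rw [Scheme.IdealSheafData.range_subschemeι]; exact hx
  refine ⟨i y, hV ⟨y, rfl⟩, ?_⟩
  exact (Scheme.Hom.comp_apply i U.ι y).symm.trans (congrArg (fun f : I.subscheme ⟶ X => f y) hi)

end Groth.Agent.LeffEtLib
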