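import Groth.Agent.LeffEtLib.OfScheme
import Groth.Agent.S2946

/-!
# Finite locally free schemes étale near the closed subscheme are étale
-/

set_option autoImplicit false
set_option backward.isDefEq.respectTransparency false
set_option linter.style.haveILetI false
set_option maxHeartbeats 1000000

universe u

open CategoryTheory CategoryTheory.Limits AlgebraicGeometry TopologicalSpace Opposite
open Groth.Agent.PullbackMod Groth.Agent.LefEtaleLib

noncomputable section

namespace Groth.Agent.LeffEtLib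

theorem isClosed_basicOpen_idem {Z : Scheme.{u}} {e : Γ(Z, ⊤)} (he : IsIdempotentElem e) :
    IsClosed (Z.basicOpen e : Set Z) := by
  have h : (Z.basicOpen e : Set Z)ᶜ = (Z.basicOpen (1 - e) : Set Z) := Set.ext fun x => by
    rw [Set.mem_compl_iff, SetLike.mem_coe, SetLike.mem_coe, Z.mem_basicOpen e x (Opens.mem_top x),
      Z.mem_basicOpen (1 - e) x (Opens.mem_top x), map_sub, map_one]
    rcases S2946.idem_eq_zero_or_one (he.map (Z.presheaf.germ ⊤ x (Opens.mem_top x)).hom) with ⟨h1, h2⟩ | ⟨h1, h2⟩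
    · rw [h2]
      simp
    · rw [h2]
      simp
  rw [← isOpen_compl_iff, h]
  exact (Z.basicOpen (1 - e)).2

theorem basicOpen_one' (Z : Scheme.{u}) : Z.basicOpen (1 : Γ(Z, ⊤)) = ⊤ :=
  Scheme.basicOpen_of_isUnit Z isUnit_one

theorem secMap_app_top {W T X : Scheme.{u}} {π : W ⟶ X} {g : T ⟶ X} (s : T ⟶ W) (h : s ≫ π = g) (b : Γ(W, ⊤)) :
    (secMap s h).app ⊤ b = s.appTop b := by
  subst h
  exact secMap_app_self s ⊤ b

section Sections

variable {U : Scheme.{u}} (𝒟 : Datum U)

/-- Compatible functions on the members algebraize. -/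
theorem Datum.exists_section (x : ∀ n, Γ(𝒟.R n, ⊤)) (hx : ∀ n, (𝒟.j n).appTop (x (n + 1)) = x n) :
    ∃ s : Γ(𝒟.E, ⊤), ∀ n, (show Γ(𝒟.R n, ⊤) from (𝒟.θ n).app ⊤ s) = x n := by
  obtain ⟨u, hu⟩ := 𝒟.exists_hom (M := Coh.structureModule U) (BCLib.isFinLocFree_structureModule U)
    (fun n => DCohLib.secHom (𝒟.A n) (show Γ(𝒟.A n, ⊤) from x n)) fun n => by
    refine DCohLib.hom_unit_ext ?_
    show (𝒟.tr n).app ⊤ (AmpleLib.sec (DCohLib.secHom (𝒟.A (n + 1)) (show Γ(𝒟.A (n + 1), ⊤) from x (n + 1)))) =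
      AmpleLib.sec (DCohLib.secHom (𝒟.A n) (show Γ(𝒟.A n, ⊤) from x n))
    rw [AmpleLib.sec_secHom, AmpleLib.sec_secHom]
    exact (secMap_app_top (𝒟.j n) (𝒟.w n) (x (n + 1))).trans (hx n)
  refine ⟨AmpleLib.sec u, fun n => ?_⟩
  have h := congrArg AmpleLib.sec (hu n)
  rw [AmpleLib.sec_secHom] at h
  exact h

/-- Sections are determined by the members. -/
theorem Datum.section_ext {s t : Γ(𝒟.E, ⊤)} (h : ∀ n, (𝒟.θ n).app ⊤ s = (𝒟.θ n).app ⊤ t) : s = t := by
  have h' : DCohLib.secHom 𝒟.E s = DCohLib.secHom 𝒟.E t :=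
    𝒟.hom_ext (BCLib.isFinLocFree_structureModule U) fun n => by
      refine DCohLib.hom_unit_ext ?_
      show (𝒟.θ n).app ⊤ (AmpleLib.sec (DCohLib.secHom 𝒟.E s)) = (𝒟.θ n).app ⊤ (AmpleLib.sec (DCohLib.secHom 𝒟.E t))
      rw [AmpleLib.sec_secHom, AmpleLib.sec_secHom]
      exact h n
  exact (AmpleLib.sec_secHom (L := 𝒟.E) s).symm.trans ((congrArg AmpleLib.sec h').trans (AmpleLib.sec_secHom (L := 𝒟.E) t))

end Sections

variable {X : Scheme.{u}} (I : X.IdealSheafData)

/-- The projection of a thickening. -/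
abbrev thickFst {W : Scheme.{u}} (π : W ⟶ X) (n : ℕ) : pullback π (I ^ (n + 1)).subschemeι ⟶ W := pullback.fst _ _

theorem thickTrans_fst {W : Scheme.{u}} (π : W ⟶ X) (n : ℕ) :
    thickTrans I π n ≫ thickFst I π (n + 1) = thickFst I π n := by
  rw [pullback.lift_fst, Category.comp_id]

theorem thick_mem_support {W : Scheme.{u}} (π : W ⟶ X) (n : ℕ) (z : ↥(pullback π (I ^ (n + 1)).subschemeι)) :
    π (thickFst I π n z) ∈ (I.support : Set X) := by
  rw [← Scheme.Hom.comp_apply, show thickFst I π n ≫ π = pullback.snd _ _ ≫ (I ^ (n + 1)).subschemeι from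
    pullback.condition, Scheme.Hom.comp_apply, ← Scheme.IdealSheafData.support_pow_succ I n,
    ← Scheme.IdealSheafData.range_subschemeι]
  exact ⟨_, rfl⟩

theorem preimage_basicOpen_coe {A B : Scheme.{u}} (f : A ⟶ B) (e : Γ(B, ⊤)) :
    (A.basicOpen (f.appTop e) : Set A) = f ⁻¹' (B.basicOpen e : Set B) :=
  (congrArg SetLike.coe (Scheme.preimage_basicOpen_top f e)).symm

/-- The idempotent cutting out the diagonal on the thickenings. -/
theorem exists_diag_idem (hP : ∀ D : X.Modules, FlatMod.IsFinLocFree D → Lef.HomToFormalBijective I D)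
    {W : Scheme.{u}} {p : W ⟶ X} (hp : Mor2.IsFinLocFree p) (G : Set ↥(pullback p p)) (hG : IsOpen G)
    (hGc : ∀ z : ↥(pullback p p), (pullback.fst p p ≫ p) z ∈ (I.support : Set X) →
      (z ∈ G ↔ z ∈ Set.range (pullback.diagonal p))) :
    ∃ e : Γ(pullback p p, ⊤), IsIdempotentElem e ∧
      Set.range (pullback.diagonal p) ⊆ ((pullback p p).basicOpen e : Set ↥(pullback p p)) ∧
      ∀ z, (pullback.fst p p ≫ p) z ∈ (I.support : Set X) → z ∈ (pullback p p).basicOpen e →
        z ∈ Set.range (pullback.diagonal p) := by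
  obtain ⟨_, _, _⟩ := hp
  let pP : pullback p p ⟶ X := pullback.fst p p ≫ p
  have hpP : Mor2.IsFinLocFree pP := ⟨inferInstance, inferInstance, inferInstance⟩
  let Δ : W ⟶ pullback p p := pullback.diagonal p
  have hΔ : Δ ≫ pP = p := by rw [← Category.assoc, pullback.diagonal_fst, Category.id_comp]
  have hclopen : ∀ n, IsClopen (thickFst I pP n ⁻¹' Set.range Δ) := fun n => by
    refine ⟨(Δ.isClosedEmbedding.isClosed_range).preimage (thickFst I pP n).continuous, ?_⟩
    have : thickFst I pP n ⁻¹' Set.range Δ = thickFst I pP n ⁻¹' G :=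
      Set.ext fun z => (hGc _ (thick_mem_support I pP n z)).symm
    rw [this]
    exact hG.preimage (thickFst I pP n).continuous
  choose en hen hben using fun n => S2946.exists_idem (hclopen n)
  let DP := Datum.ofScheme I hP pP hpP
  obtain ⟨e, he⟩ := DP.exists_section en fun n => by
    refine S2946.idem_ext ((hen (n + 1)).map (thickTrans I pP n).appTop.hom) (hen n) ?_
    show ((pullback pP (I ^ (n + 1)).subschemeι).basicOpen ((thickTrans I pP n).appTop (en (n + 1))) :
      Set ↥(pullback pP (I ^ (n + 1)).subschemeι)) = ((pullback pP (I ^ (n + 1)).subschemeι).basicOpen (en n) : Set _)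
    rw [hben n]
    refine (preimage_basicOpen_coe (thickTrans I pP n) (en (n + 1))).trans ?_
    rw [hben (n + 1)]
    refine Set.ext fun z => ?_
    show thickFst I pP (n + 1) (thickTrans I pP n z) ∈ Set.range Δ ↔ thickFst I pP n z ∈ Set.range Δ
    rw [← Scheme.Hom.comp_apply, thickTrans_fst]
  let e' : Γ(pullback p p, ⊤) := e
  have hen' : ∀ n, (thickFst I pP n).appTop e' = en n := fun n => (secMap_app_top _ _ _).symm.trans (he n)
  have hidem : IsIdempotentElem e' := DP.section_ext (s := (show Γ(DP.E, ⊤) from (e' * e' : Γ(pullback p p, ⊤))))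
    fun n => by
      refine (secMap_app_top _ _ _).trans (Eq.trans ?_ (secMap_app_top _ _ _).symm)
      show (thickFst I pP n).appTop (e' * e') = (thickFst I pP n).appTop e'
      rw [map_mul, hen', (hen n).eq]
  refine ⟨e', hidem, ?_, fun z hz hze => ?_⟩
  · let DW := Datum.ofScheme I hP p ⟨inferInstance, inferInstance, inferInstance⟩
    have h1 : (Δ.appTop e' : Γ(W, ⊤)) = 1 := DW.section_ext (s := (show Γ(DW.E, ⊤) from (Δ.appTop e' : Γ(W, ⊤))))
      fun n => by
        refine (secMap_app_top _ _ _).trans (Eq.trans ?_ (secMap_app_top _ _ _).symm)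
        show (thickFst I p n).appTop (Δ.appTop e') = (thickFst I p n).appTop (1 : Γ(W, ⊤))
        let d : pullback p (I ^ (n + 1)).subschemeι ⟶ pullback pP (I ^ (n + 1)).subschemeι :=
          pullback.lift (thickFst I p n ≫ Δ) (pullback.snd _ _) (by rw [Category.assoc, hΔ]; exact pullback.condition)
        have hd : d ≫ thickFst I pP n = thickFst I p n ≫ Δ := pullback.lift_fst _ _ _
        have h2 := congrArg (fun f => (Scheme.Hom.appTop f) e') hd
        simp only [Scheme.Hom.comp_appTop, ConcreteCategory.comp_apply] at h2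
        rw [map_one, ← h2, hen']
        refine S2946.idem_ext ((hen n).map d.appTop.hom) IsIdempotentElem.one ?_
        rw [basicOpen_one', Opens.coe_top]
        refine (preimage_basicOpen_coe d (en n)).trans ?_
        rw [hben n]
        refine Set.eq_univ_of_forall fun z => ⟨thickFst I p n z, ?_⟩
        rw [← Scheme.Hom.comp_apply, ← Scheme.Hom.comp_apply, hd]
    rintro _ ⟨w, rfl⟩
    have h3 := Set.ext_iff.1 (preimage_basicOpen_coe Δ e') w
    rw [h1, basicOpen_one', Opens.coe_top] at h3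
    exact h3.1 trivial
  · obtain ⟨y, hy⟩ : pP z ∈ Set.range (I ^ (0 + 1)).subschemeι := by
      rw [Scheme.IdealSheafData.range_subschemeι, Scheme.IdealSheafData.support_pow_succ I 0]
      exact hz
    obtain ⟨z', hz', -⟩ := Scheme.Pullback.exists_preimage_pullback (f := pP) (g := (I ^ (0 + 1)).subschemeι) z y hy.symm
    have h2 : z' ∈ (thickFst I pP 0) ⁻¹' ((pullback p p).basicOpen e' : Set ↥(pullback p p)) := by
      rw [Set.mem_preimage, hz']
      exact hze
    rw [← preimage_basicOpen_coe, hen', hben 0] at h2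
    rw [← hz']
    exact h2

/-- A closed immersion of finite locally free schemes with levelwise inverses is an isomorphism. -/
theorem isIso_of_levels (hP : ∀ D : X.Modules, FlatMod.IsFinLocFree D → Lef.HomToFormalBijective I D)
    {W C : Scheme.{u}} {p : W ⟶ X} {pC : C ⟶ X} (hp : Mor2.IsFinLocFree p) (hpC : Mor2.IsFinLocFree pC)
    (d : W ⟶ C) [Mono d] (hdp : d ≫ pC = p) (hs : ∀ n, ∃ s, s ≫ d = thickFst I pC n) : IsIso d := by
  haveI : IsFinite p := hp.1
  haveI : IsFinite pC := hpC.1
  let DW := Datum.ofScheme I hP p hp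
  let DC := Datum.ofScheme I hP pC hpC
  choose s hs using hs
  have hsp : ∀ n, s n ≫ p = pullback.snd _ _ ≫ (I ^ (n + 1)).subschemeι := fun n => by
    rw [← hdp, ← Category.assoc, hs]
    exact pullback.condition
  let σ : ∀ n, pullback pC (I ^ (n + 1)).subschemeι ⟶ pullback p (I ^ (n + 1)).subschemeι := fun n =>
    pullback.lift (s n) (pullback.snd _ _) (hsp n)
  let dn : ∀ n, pullback p (I ^ (n + 1)).subschemeι ⟶ pullback pC (I ^ (n + 1)).subschemeι := fun n =>
    pullback.lift (pullback.fst _ _ ≫ d) (pullback.snd _ _) (by rw [Category.assoc, hdp]; exact pullback.condition)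
  have hσd : ∀ n, σ n ≫ thickFst I p n ≫ d = thickFst I pC n := fun n => by
    rw [← Category.assoc, pullback.lift_fst, hs]
  have hdσ : ∀ n, dn n ≫ σ n = 𝟙 _ := fun n => by
    apply pullback.hom_ext
    · rw [Category.assoc, pullback.lift_fst, ← cancel_mono d, Category.assoc, hs, pullback.lift_fst, Category.id_comp]
    · rw [Category.assoc, pullback.lift_snd, pullback.lift_snd, Category.id_comp]
  have hσq : ∀ n, σ n ≫ DW.q n = DC.q n := fun n => by
    show σ n ≫ pullback.snd _ _ ≫ _ = _
    rw [← Category.assoc, pullback.lift_snd]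
    rfl
  have hdq : ∀ n, dn n ≫ DC.q n = DW.q n := fun n => by
    show dn n ≫ pullback.snd _ _ ≫ _ = _
    rw [← Category.assoc, pullback.lift_snd]
    rfl
  have hjσ : ∀ n, DC.j n ≫ σ (n + 1) = σ n ≫ DW.j n := fun n => by
    show thickTrans I pC n ≫ σ (n + 1) = σ n ≫ thickTrans I p n
    apply pullback.hom_ext
    · rw [Category.assoc, pullback.lift_fst, Category.assoc, thickTrans_fst, ← cancel_mono d, Category.assoc, hs,
        thickTrans_fst, Category.assoc, hσd]
    · rw [Category.assoc, pullback.lift_snd, pullback.lift_snd, Category.assoc, pullback.lift_snd,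
        ← Category.assoc, pullback.lift_snd]
  obtain ⟨v, hv⟩ := DC.exists_hom DW.hE (fun n => DW.θ n ≫ secMap (σ n) (hσq n)) fun n => by
    show (DW.θ (n + 1) ≫ secMap (σ (n + 1)) _) ≫ secMap (DC.j n) _ = _
    rw [Category.assoc, secMap_comp, secMap_congr (hjσ n) _
      ((Category.assoc _ _ _).trans ((congrArg (σ n ≫ ·) (DW.w n)).trans (hσq n)))]
    refine Eq.trans ?_ (congrArg (· ≫ secMap (σ n) (hσq n)) (DW.θ_comp n))
    exact ((Category.assoc _ _ _).trans (congrArg _ (secMap_comp _ _ _ _))).symm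
  have hκθ : ∀ n, secMap d hdp ≫ DW.θ n = DC.θ n ≫ secMap (dn n) (hdq n) := fun n => by
    show secMap d _ ≫ secMap (thickFst I p n) _ = secMap (thickFst I pC n) _ ≫ secMap (dn n) _
    rw [secMap_comp, secMap_comp]
    exact secMap_congr (pullback.lift_fst _ _ _).symm _ _
  have h1 : v ≫ secMap d hdp = 𝟙 _ := DW.hom_ext DW.hE fun n => by
    rw [Category.assoc, hκθ, ← Category.assoc, hv, Category.assoc, secMap_comp, Category.id_comp]
    refine (congrArg (DW.θ n ≫ ·) (secMap_congr (hdσ n) _ (Category.id_comp _))).trans ?_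
    show secMap _ _ ≫ secMap (𝟙 _) _ = secMap _ _
    rw [secMap_comp]
    exact secMap_congr (Category.id_comp _) _ _
  have h2 : secMap d hdp ≫ v = 𝟙 _ := DC.hom_ext DC.hE fun n => by
    rw [Category.assoc, hv, ← Category.assoc, hκθ, Category.assoc, secMap_comp]
    refine Eq.trans ?_ (Category.id_comp _).symm
    show secMap _ _ ≫ secMap _ _ = secMap _ _
    rw [secMap_comp]
    refine secMap_congr ?_ _ _
    rw [Category.assoc, pullback.lift_fst, hσd]
  haveI : IsIso (secMap d hdp) := ⟨v, h2, h1⟩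
  exact isIso_of_secMap d hdp

/-- A finite locally free scheme étale over a neighbourhood of the closed subscheme is étale, when formal
functions are functions. -/
theorem etale_of_formal (hP : ∀ D : X.Modules, FlatMod.IsFinLocFree D → Lef.HomToFormalBijective I D)
    {W : Scheme.{u}} (p : W ⟶ X) (hp : Mor2.IsFinLocFree p) (V : X.Opens) (hV : (I.support : Set X) ⊆ (V : Set X))
    [Etale (p ∣_ V)] : Etale p := by
  obtain ⟨_, _, _⟩ := hp
  let pP : pullback p p ⟶ X := pullback.fst p p ≫ p
  let Δ : W ⟶ pullback p p := pullback.diagonal p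
  have hΔ : Δ ≫ pP = p := by rw [← Category.assoc, pullback.diagonal_fst, Category.id_comp]
  let W' : W.Opens := p ⁻¹ᵁ V
  let q : (W' : Scheme.{u}) ⟶ X := W'.ι ≫ p
  haveI : Etale q := by
    have : q = p ∣_ V ≫ V.ι := (morphismRestrict_ι p V).symm
    rw [this]
    infer_instance
  let a : pullback q q ⟶ pullback p p := pullback.map q q p p W'.ι W'.ι (𝟙 X) (by simp [q]) (by simp [q])
  have ha : pullback.diagonal q ≫ a = W'.ι ≫ Δ := by
    apply pullback.hom_ext <;> simp [a, Δ]
  haveI : IsOpenImmersion (W'.ι ≫ Δ) := ha ▸ inferInstance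
  obtain ⟨e, he, hΔe, hCe⟩ := exists_diag_idem I hP ⟨inferInstance, inferInstance, inferInstance⟩
    (Set.range (W'.ι ≫ Δ)) (W'.ι ≫ Δ).isOpenEmbedding.isOpen_range fun z hz => by
      constructor
      · rintro ⟨w, rfl⟩
        exact ⟨W'.ι w, (Scheme.Hom.comp_apply _ _ _).symm⟩
      · rintro ⟨w, rfl⟩
        have hw' : w ∈ W' := by
          show p w ∈ V
          rw [← hΔ, Scheme.Hom.comp_apply]
          exact hV hz
        exact ⟨⟨w, hw'⟩, Scheme.Hom.comp_apply _ _ _⟩
  let C : (pullback p p).Opens := (pullback p p).basicOpen e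
  haveI : IsClosedImmersion C.ι :=
    IsClosedImmersion.of_isPreimmersion _ (by rw [Scheme.Opens.range_ι]; exact isClosed_basicOpen_idem he)
  let pC : (C : Scheme.{u}) ⟶ X := C.ι ≫ pP
  let d : W ⟶ (C : Scheme.{u}) := IsOpenImmersion.lift C.ι Δ (by rw [Scheme.Opens.range_ι]; exact hΔe)
  have hd : d ≫ C.ι = Δ := IsOpenImmersion.lift_fac _ _ _
  have hdp : d ≫ pC = p := by rw [← Category.assoc, hd, hΔ]
  haveI : IsClosedImmersion (d ≫ C.ι) := hd.symm ▸ inferInstance
  haveI : IsClosedImmersion d := IsClosedImmersion.of_comp d C.ι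
  haveI : IsOpenImmersion (W'.ι ≫ d) := by
    haveI : IsOpenImmersion ((W'.ι ≫ d) ≫ C.ι) := by rw [Category.assoc, hd]; infer_instance
    exact IsOpenImmersion.of_comp (W'.ι ≫ d) C.ι
  haveI : IsIso d := isIso_of_levels I hP (p := p) (pC := pC) ⟨inferInstance, inferInstance, inferInstance⟩
    ⟨inferInstance, inferInstance, inferInstance⟩ d hdp fun n => by
    refine ⟨IsOpenImmersion.lift (W'.ι ≫ d) (thickFst I pC n) ?_ ≫ W'.ι,
      (Category.assoc _ _ _).trans (IsOpenImmersion.lift_fac _ _ _)⟩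
    rintro _ ⟨z, rfl⟩
    have hz : pP (C.ι (thickFst I pC n z)) ∈ (I.support : Set X) := by
      rw [← Scheme.Hom.comp_apply]
      exact thick_mem_support I pC n z
    obtain ⟨w, hw⟩ := hCe _ hz (thickFst I pC n z).2
    have hwV : w ∈ W' := by
      show p w ∈ V
      rw [← hΔ, Scheme.Hom.comp_apply, hw]
      exact hV hz
    refine ⟨⟨w, hwV⟩, C.ι.isOpenEmbedding.injective ?_⟩
    rw [← Scheme.Hom.comp_apply, Category.assoc, hd, Scheme.Hom.comp_apply]
    exact hw
  haveI : IsOpenImmersion (pullback.diagonal p) := by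
    show IsOpenImmersion Δ
    rw [← hd]
    infer_instance
  exact Etale.of_formallyUnramified_of_flat p

end Groth.Agent.LeffEtLib
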