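import Groth.Agent.LeffEtLib.Nhd
import Groth.Agent.LeffEtLib.Formal
import Groth.Agent.LefEtaleLib.Completion
import Groth.Agent.LefEtaleLib.Main

/-!
# Completion equivalences extend finite étale covers
-/

set_option autoImplicit false
set_option backward.isDefEq.respectTransparency false
set_option linter.style.haveILetI false
set_option maxHeartbeats 1000000

universe u

open CategoryTheory CategoryTheory.Limits AlgebraicGeometry TopologicalSpace Opposite
open Scheme.Modules (pullbackPushforwardAdjunction pullbackComp pushforwardComp pushforwardCongr)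
open Groth.Agent.PullbackMod

noncomputable section

namespace Groth.Agent.LeffEtLib

variable {X : Scheme.{u}} (I : X.IdealSheafData)

theorem modSys_eq {𝔛 : FSch.Sys.{u}} {F : ∀ n, (𝔛.X n).Modules}
    {e e' : ∀ n, (Scheme.Modules.pullback (𝔛.ι n)).obj (F (n + 1)) ≅ F n} (h : ∀ n, (e n).hom = (e' n).hom) :
    (⟨F, e⟩ : FSch.ModSys 𝔛) = ⟨F, e'⟩ := by
  rw [show e = e' from funext fun n => Iso.ext (h n)]

theorem complMod_e' (F : X.Modules) (n : ℕ) :
    ((FSch.complMod I F).e n).hom = (LefPicLib.pullPull (ι_completionToX I n) F).hom := by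
  rw [FSch.complMod_e, show FSch.complTransIso I n = pullbackComp ((FSch.completionAlong X I).ι n)
    (FSch.completionToX X I (n + 1)) ≪≫ Scheme.Modules.pullbackCongr (ι_completionToX I n) from rfl]
  rfl

theorem completionMod_eq (F : X.Modules) : FSch.completionMod I F = FSch.complMod I F :=
  modSys_eq (F := fun n => (Scheme.Modules.pullback (FSch.completionToX X I n)).obj F)
    fun n => (completionMod_e F n).trans (complMod_e' I F n).symm

variable {I} (Rn : ∀ n, FEt.Cat ((FSch.completionAlong X I).X n))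
  (j : ∀ n, (Rn n).left ⟶ (Rn (n + 1)).left)
  (hj : ∀ n, IsPullback (j n) (Rn n).hom (Rn (n + 1)).hom ((FSch.completionAlong X I).ι n))

/-- The algebraization of the formal algebra of a tower, read on the whole scheme. -/
theorem exists_theta_self {F : X.Modules} [Coh.IsQCoh F] (Φ : FSch.completionMod I F ≅ towerSys Rn j hj)
    (w : ∀ n, j n ≫ (Rn (n + 1)).hom ≫ FSch.completionToX X I (n + 1) = (Rn n).hom ≫ FSch.completionToX X I n) :
    ∃ θ : ∀ n, F ⟶ (Scheme.Modules.pushforward ((Rn n).hom ≫ FSch.completionToX X I n)).obj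
        (Coh.structureModule (Rn n).left),
      (∀ n, θ (n + 1) ≫ LefEtaleLib.secMap (j n) (w n) = θ n) ∧
      ∀ (n : ℕ) (x : X), Function.Surjective (stalkLin (θ n) x) ∧
        LinearMap.ker (stalkLin (θ n) x) = IntMult.stalkIdeal (I ^ (n + 1)) x • ⊤ := by
  refine ⟨fun n => (pullbackPushforwardAdjunction (FSch.completionToX X I n)).homEquiv _ _
    (levelIso Rn j hj Φ n).hom ≫ (pushforwardComp (Rn n).hom (FSch.completionToX X I n)).hom.app _,
    fun n => ?_, fun n x => ?_⟩
  · dsimp only
    rw [homEquiv_levelIso Rn j hj Φ n]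
    simp only [Category.assoc]
    rw [push_pushSquare (hj n).w (FSch.completionToX X I (n + 1)) (ι_completionToX I n)]
  · dsimp only
    haveI : IsClosedImmersion (FSch.completionToX X I n) :=
      inferInstanceAs (IsClosedImmersion (I ^ (n + 1)).subschemeι)
    have h := stalk_homEquiv_iso (FSch.completionToX X I n) F (levelIso Rn j hj Φ n) x
    rw [show (FSch.completionToX X I n).ker = I ^ (n + 1) from Scheme.IdealSheafData.ker_subschemeι _] at h
    have hb : Function.Bijective (stalkLin ((pushforwardComp (Rn n).hom (FSch.completionToX X I n)).hom.app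
        (Coh.structureModule (Rn n).left)) x) := (isIso_iff_stalk _).1 inferInstance x
    rw [stalkLin_comp]
    refine ⟨hb.2.comp h.1, ?_⟩
    rw [LinearMap.ker_comp, LinearMap.ker_eq_bot.2 hb.1, Submodule.comap_bot]
    exact h.2

variable (I)

/-- A completion equivalence makes restriction of finite étale covers essentially surjective. -/
theorem exists_extension_of_completion (hP : ∀ D : X.Modules, FlatMod.IsFinLocFree D → Lef.HomToFormalBijective I D)
    (hess : ∀ 𝔐 : FSch.ModSys (FSch.completionAlong X I), LefX.LevelwiseFinLocFree 𝔐 →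
      ∃ F : X.Modules, FlatMod.IsFinLocFree F ∧ Nonempty (FSch.complMod I F ≅ 𝔐))
    (R : FEt.Cat I.subscheme) : ∃ R' : FEt.Cat X, Nonempty ((FEt.restrict I.subschemeι).obj R' ≅ R) := by
  obtain ⟨Rn, j, b, hj, hb⟩ := exists_tower I R
  obtain ⟨F, hF, ⟨Φ⟩⟩ := hess _ (levelwiseFinLocFree_towerSys Rn j hj)
  haveI := (PullbackMod.isQCoh_and_isFP_of_isFinLocFree F hF).1
  let c := FSch.completionToX X I
  have w : ∀ n, j n ≫ (Rn (n + 1)).hom ≫ c (n + 1) = (Rn n).hom ≫ c n := fun n =>
    (Category.assoc _ _ _).symm.trans ((congrArg (· ≫ c (n + 1)) (hj n).w).trans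
      ((Category.assoc _ _ _).trans (congrArg ((Rn n).hom ≫ ·) (ι_completionToX I n))))
  rw [← completionMod_eq] at Φ
  obtain ⟨θ, hθ, hθs⟩ := exists_theta_self Rn j hj Φ w
  let 𝒟 : Datum X :=
    { J := I, R := fun n => (Rn n).left, q := fun n => (Rn n).hom ≫ c n, j := j, w := w
      E := F, hE := hF, θ := θ, θ_comp := hθ, θ_stalk := hθs, hP := hP }
  haveI : IsFinite (Rn 0).hom := (Rn 0).prop.1
  haveI : IsAffineHom (Rn 0).hom := inferInstance
  obtain ⟨W, p, h, hp, hc⟩ := 𝒟.exists_scheme (Rn 0).hom rfl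
  have hc' : IsPullback (b ≫ h) R.hom p I.subschemeι := by
    have h1 := hb.paste_horiz hc
    rw [show LefEtaleLib.incl I 0 ≫ (𝒟.J ^ (0 + 1)).subschemeι = I.subschemeι from LefEtaleLib.incl_ι I 0] at h1
    exact h1
  obtain ⟨_, _, _⟩ := hp
  haveI : Etale R.hom := R.prop.2
  obtain ⟨V, hV, _⟩ := exists_etale_nhd_closed p I.subschemeι hc'
  haveI : Etale p := etale_of_formal I hP p ⟨inferInstance, inferInstance, inferInstance⟩ V
    (by rw [← Scheme.IdealSheafData.range_subschemeι]; exact hV)
  exact ⟨MorphismProperty.Over.mk ⊤ p ⟨inferInstance, inferInstance⟩,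
    nonempty_restrict_iso I.subschemeι _ R (b ≫ h) hc'⟩

end Groth.Agent.LeffEtLib
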