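import Groth.Agent.S5184
import Groth.Agent.LefEtaleLib.Main
import Groth.Agent.PropPi1.Surj
import Groth.Agent.S0289

/-!
# Finite etale covers under the effective Lefschetz condition and purity
-/

set_option autoImplicit false
set_option backward.isDefEq.respectTransparency false
set_option linter.style.haveILetI false

universe u
open CategoryTheory CategoryTheory.Limits AlgebraicGeometry

noncomputable section

namespace Groth.Agent.LeffEtLib

variable {X : Scheme.{u}}

/-- Full faithfulness of restriction along an iso-conjugate closed immersion. -/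
theorem fullyFaithful_of_iso_conj {X' Y Y' : Scheme.{u}} (f : Y ⟶ X) (f' : Y' ⟶ X') (e : X' ⟶ X) (φ : Y' ⟶ Y)
    [IsIso e] [IsIso φ] (w : f' ≫ e = φ ≫ f)
    (h : (FEt.restrict f').Full ∧ (FEt.restrict f').Faithful) :
    (FEt.restrict f).Full ∧ (FEt.restrict f).Faithful := by
  haveI := h.1
  haveI := h.2
  haveI : (FEt.restrict e).IsEquivalence := S0289.result e
  haveI : (FEt.restrict φ).IsEquivalence := S0289.result φ
  let κ : FEt.restrict f ⋙ FEt.restrict φ ≅ FEt.restrict e ⋙ FEt.restrict f' :=
    (PropPi1.restrictCompIso φ f).symm ≪≫ eqToIso (by rw [w]) ≪≫ PropPi1.restrictCompIso f' e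
  haveI : (FEt.restrict f ⋙ FEt.restrict φ).Faithful := Functor.Faithful.of_iso κ.symm
  haveI : (FEt.restrict f ⋙ FEt.restrict φ).Full := Functor.Full.of_iso κ.symm
  exact ⟨Functor.Full.of_comp_faithful (FEt.restrict f) (FEt.restrict φ),
    Functor.Faithful.of_comp (FEt.restrict f) (FEt.restrict φ)⟩

/-- Under the Lefschetz condition, restriction to the closed subscheme is fully faithful. -/
theorem fullyFaithful_restrict_of_lefCond (I : X.IdealSheafData) (h : Lef.LefCond X I) :
    (FEt.restrict I.subschemeι).Full ∧ (FEt.restrict I.subschemeι).Faithful := by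
  let e := (⊤ : X.Opens).ι
  haveI : IsIso e := X.topIso.isIso_hom
  let φ : (I.comap e).subscheme ⟶ I.subscheme := (I.comapIso e).hom ≫ pullback.snd e I.subschemeι
  haveI : IsIso φ := inferInstance
  refine fullyFaithful_of_iso_conj I.subschemeι (I.comap e).subschemeι e φ ?_
    (LefEtaleLib.fullyFaithful_restrict (I.comap e) (h ⊤ (Set.subset_univ _)))
  simp only [φ, Category.assoc, ← pullback.condition]
  rw [← Category.assoc, Scheme.IdealSheafData.comapIso_hom_fst]

/-- If restriction to every open neighbourhood of the closed subscheme is essentially surjective,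
the effective Lefschetz condition makes restriction to the closed subscheme an equivalence. -/
theorem isEquivalence_restrict_of_leff [IsLocallyNoetherian X] (I : X.IdealSheafData) (h : LefX.LeffCond X I)
    (hU : ∀ U : X.Opens, (I.support : Set X) ⊆ (U : Set X) → (FEt.restrict U.ι).EssSurj) :
    (FEt.restrict I.subschemeι).IsEquivalence := by
  obtain ⟨h1, h2⟩ := fullyFaithful_restrict_of_lefCond I h.1
  suffices h3 : (FEt.restrict I.subschemeι).EssSurj from Functor.IsEquivalence.mk
  refine ⟨fun R => ?_⟩
  obtain ⟨U, R', hsub, hR'⟩ := S5184.result X I h R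
  haveI := hU U hsub
  have hr : Set.range I.subschemeι ⊆ Set.range U.ι := by
    rw [Scheme.IdealSheafData.range_subschemeι, Scheme.Opens.range_ι]
    exact hsub
  let i := IsOpenImmersion.lift U.ι I.subschemeι hr
  have hi : i ≫ U.ι = I.subschemeι := IsOpenImmersion.lift_fac _ _ _
  obtain ⟨ψ⟩ := hR' i hi
  exact ⟨(FEt.restrict U.ι).objPreimage R', ⟨(eqToIso (by rw [hi]) :
      (FEt.restrict I.subschemeι).obj _ ≅ (FEt.restrict (i ≫ U.ι)).obj _) ≪≫
    (PropPi1.restrictCompIso i U.ι).app _ ≪≫
    (FEt.restrict i).mapIso ((FEt.restrict U.ι).objObjPreimageIso R') ≪≫ ψ⟩⟩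

end Groth.Agent.LeffEtLib
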