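import Groth.Agent.LeffEtLib.Equiv
import Groth.Agent.LeffCoreLib.Field
import Groth.Agent.JacLib.InverseIdeal
import Groth.Agent.ZeroConnLib.Basic
import Groth.Agent.LefAmpleLib.Finite
import Groth.Agent.IdealMulLib.Basic
import Groth.Agent.S2944
import Groth.Agent.RelTildeLib.Morph
import Groth.Agent.IdealStalkLib.Cartier

/-!
# The effective Lefschetz condition for an ample divisor over a field
-/

set_option autoImplicit false
set_option backward.isDefEq.respectTransparency false
set_option backward.isDefEq.respectTransparency.types false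
set_option linter.style.haveILetI false

universe u
open CategoryTheory CategoryTheory.Limits AlgebraicGeometry TopologicalSpace

noncomputable section

namespace Groth.Agent.LeffEtLib

variable {X : Scheme.{u}}

/-- The zero scheme of a regular section is effective Cartier, with inverse the line bundle. -/
theorem isInverseOf_zeroScheme {L : X.Modules} (hL : PicF.IsInvertible L) (s : Coh.structureModule X ⟶ L) [Mono s] :
    ClSub.IsInverseOf L (ClSub.idealMod (PicF2.zeroScheme L s)) := by
  let σ := AmpleLib.sec s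
  have hs : DCohLib.secHom L σ = s := AmpleLib.secHom_sec s
  have hK := JacLib.isCanSect_zeroScheme hL σ
  rw [hs] at hK
  refine JacLib.nonempty_tensor_idealMod_iso (fun x => ?_) hK
  obtain ⟨W, hx, l, a, hl, hI, hsl⟩ := hK x
  refine ⟨W, hx, a, mem_nonZeroDivisors_iff_right.2 fun r hr => ?_, hI⟩
  have hinj : Function.Injective (s.app W.1) := RelTildeLib.app_injective_of_mono s W.1
  refine hinj ?_
  rw [map_zero]
  conv_lhs => rw [show r = r • (1 : Γ(X, W.1)) from (mul_one r).symm]
  refine (Scheme.Modules.Hom.app_smul s r _).trans ?_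
  rw [← hs, DCohLib.secHom_app_one]
  exact (congrArg (r • ·) hsl).trans (by rw [smul_smul, hr, zero_smul])

variable (k : Type u) [Field k] [X.Over (Spec (CommRingCat.of k))] [IsProper (X ↘ Spec (CommRingCat.of k))]
  {I : X.IdealSheafData} {L : X.Modules} (hL : ClSub.IsInverseOf L (ClSub.idealMod I)) (hA : CohB1.IsAmple L)
  (hd : ∀ x : X, IsClosed ({x} : Set X) → (2 : ℕ∞) ≤ LocCoh.depth (X.presheaf.stalk x) (X.presheaf.stalk x))
  (hd3 : ∀ x : X, IsClosed ({x} : Set X) → x ∈ I.support →
    (3 : ℕ∞) ≤ LocCoh.depth (X.presheaf.stalk x) (X.presheaf.stalk x))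

omit hA in
include k hL hd3 in
/-- The divisor has depth two at closed points. -/
theorem two_le_depth_quotMod (x : X) (hx : IsClosed ({x} : Set X)) :
    ((2 : ℕ) : ℕ∞) ≤ LocCoh.depth (X.presheaf.stalk x) ((ClSub.quotMod I).presheaf.stalk x) := by
  haveI := EulerIneqLib.isNoetherian_proper (X := X) k
  obtain ⟨c⟩ := LeffCore.nonempty_stalk_quotMod I x
  rw [← Depth.depth_congr c]
  by_cases hs : x ∈ I.support
  · obtain ⟨u, hu, hI⟩ := LeffCore.exists_regular_gen (LeffCore.isInvertible_pair hL).2 x
    have hum : u ∈ IsLocalRing.maximalIdeal (X.presheaf.stalk x) :=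
      IdealStalkLib.stalkIdeal_le_maximal I hs (hI ▸ Ideal.mem_span_singleton_self u)
    have hreg : IsSMulRegular (X.presheaf.stalk x) u :=
      (isRegular_iff_mem_nonZeroDivisors.2 hu).left.isSMulRegular
    let e₀ : QuotSMulTop u (X.presheaf.stalk x) ≃ₗ[X.presheaf.stalk x] X.presheaf.stalk x ⧸ IntMult.stalkIdeal I x :=
      Submodule.quotEquivOfEq _ _ (by rw [hI, ← Submodule.ideal_span_singleton_smul, smul_eq_mul, Ideal.mul_top])
    rw [← FlatDepth.depth_congr e₀]
    have h2 := FlatDepth.depth_quotSMulTop (M := X.presheaf.stalk x) hum hreg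
    have h3 := hd3 x hx hs
    rw [← h2] at h3
    exact WithTop.le_of_add_le_add_right (by simp) (le_of_eq_of_le (by norm_num) h3)
  · have htop := IdealMulLib.stalkIdeal_eq_top I hs
    haveI : Subsingleton (X.presheaf.stalk x ⧸ IntMult.stalkIdeal I x) :=
      Ideal.Quotient.subsingleton_iff.2 htop
    rw [LocCoh.depth, LocCoh.idealDepth, if_pos (Subsingleton.elim _ _)]
    exact le_top

include k hL hA hd hd3 in
/-- The effective Lefschetz condition. -/
theorem leffCond_of_depth : LefX.LeffCond X I := by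
  haveI := EulerIneqLib.isNoetherian_proper (X := X) k
  refine ⟨S2944.result k X I L hL hA hd, fun 𝔐 h𝔐 => LeffCore.exists_locFree_nhd (A := k) hL hA ?_
    (LeffCore.evVanishTot_of_depth k hL hA hd) 𝔐 h𝔐⟩
  intro E₀ hE₀
  obtain ⟨η⟩ := id hL
  let M := (Scheme.Modules.pushforward (FSch.completionToX X I 0)).obj E₀
  haveI : IsLocallyNoetherian ((FSch.completionAlong X I).X 0) :=
    LocallyOfFiniteType.isLocallyNoetherian (FSch.completionToX X I 0)
  have hM : Coh.IsCoh M :=
    DevLib.isCoh_pushforward_closed (FSch.completionToX X I 0) (CurveLib.isCoh_of_isFinLocFree hE₀)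
  have h : ∀ K : X.IdealSheafData, K = I → ∀ x : X, IsClosed ({x} : Set X) →
      ((2 : ℕ) : ℕ∞) ≤ LocCoh.depth (X.presheaf.stalk x) ((ClSub.quotMod K).presheaf.stalk x) := by
    rintro K rfl x hx
    exact two_le_depth_quotMod k hL hd3 x hx
  obtain ⟨m₀, hm₀⟩ := FibVanLib.eventually_subsingleton_neg_coh k hA ⟨η⟩ hM
    (BCLib.isFinLocFree_structureModule X) (r := 2) fun x hx =>
      LeffCore.le_depth_push_flf (I ^ (0 + 1)) hE₀ x 2 (h _ (pow_one I) x hx)
  refine ⟨m₀, fun m hm i hi => ?_⟩
  haveI := hm₀ m hm i hi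
  exact ProjCoh.subsingleton_of_iso (AmpleLib.tIso (Iso.refl M) (AmpleLib.unitL _)) i

end Groth.Agent.LeffEtLib
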