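import Groth.Agent.LefEtaleLib.Main
import Groth.Agent.S0238
import Groth.Prelude.Def_FSch3

/-!
# The tower of finite étale covers of the thickenings extending a cover of a closed subscheme
-/

set_option autoImplicit false
set_option backward.isDefEq.respectTransparency false
set_option linter.style.haveILetI false

universe u

open CategoryTheory CategoryTheory.Limits AlgebraicGeometry

noncomputable section

namespace Groth.Agent.LeffEtLib

variable {X : Scheme.{u}} (I : X.IdealSheafData)

theorem ι_completionToX (n : ℕ) :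
    (FSch.completionAlong X I).ι n ≫ FSch.completionToX X I (n + 1) = FSch.completionToX X I n :=
  Scheme.IdealSheafData.inclusion_subschemeι _

theorem incl_ι_comp (n : ℕ) :
    LefEtaleLib.incl I n ≫ (FSch.completionAlong X I).ι n = LefEtaleLib.incl I (n + 1) :=
  LefEtaleLib.inclusion_comp _ _

theorem surjective_ι (n : ℕ) : Surjective ((FSch.completionAlong X I).ι n) := ⟨fun z => by
  obtain ⟨y, rfl⟩ := (LefEtaleLib.incl I (n + 1)).surjective z
  refine ⟨LefEtaleLib.incl I n y, ?_⟩
  exact (Scheme.Hom.comp_apply (LefEtaleLib.incl I n) ((FSch.completionAlong X I).ι n) y).symm.trans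
    (congrArg (fun f : I.subscheme ⟶ (I ^ (n + 1 + 1)).subscheme => f y) (incl_ι_comp I n))⟩

theorem isClosedImmersion_ι (n : ℕ) : IsClosedImmersion ((FSch.completionAlong X I).ι n) := by
  haveI : IsClosedImmersion ((FSch.completionAlong X I).ι n ≫ FSch.completionToX X I (n + 1)) :=
    (ι_completionToX I n).symm ▸ inferInstance
  exact IsClosedImmersion.of_comp _ (FSch.completionToX X I (n + 1))

theorem exists_extension {P Z : Scheme.{u}} (k : P ⟶ Z) [IsClosedImmersion k] [Surjective k] (B : FEt.Cat P) :
    ∃ (A : FEt.Cat Z) (b : B.left ⟶ A.left), IsPullback b B.hom A.hom k := by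
  haveI := S0238.result k
  let A := (FEt.restrict k).objPreimage B
  let e : (FEt.restrict k).obj A ≅ B := (FEt.restrict k).objObjPreimageIso B
  let el : ((FEt.restrict k).obj A).left ≅ B.left :=
    (MorphismProperty.Over.forget FEt.prop.{u} ⊤ P ⋙ CategoryTheory.Over.forget P).mapIso e
  refine ⟨A, el.inv ≫ pullback.fst A.hom k, ?_⟩
  refine (IsPullback.of_hasPullback A.hom k).of_iso el (Iso.refl _) (Iso.refl _) (Iso.refl _) ?_ ?_ ?_ ?_
  · simp only [Iso.refl_hom, Category.comp_id, Iso.hom_inv_id_assoc]
  · simp only [Iso.refl_hom, Category.comp_id]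
    exact (MorphismProperty.Over.w e.hom).symm
  · simp
  · simp

theorem exists_tower (R : FEt.Cat I.subscheme) :
    ∃ (Rn : ∀ n, FEt.Cat ((FSch.completionAlong X I).X n)) (j : ∀ n, (Rn n).left ⟶ (Rn (n + 1)).left)
      (b : R.left ⟶ (Rn 0).left),
      (∀ n, IsPullback (j n) (Rn n).hom (Rn (n + 1)).hom ((FSch.completionAlong X I).ι n)) ∧
        IsPullback b R.hom (Rn 0).hom (LefEtaleLib.incl I 0) := by
  haveI := LefEtaleLib.isClosedImmersion_incl I 0
  have hstep : ∀ (n : ℕ) (B : FEt.Cat ((FSch.completionAlong X I).X n)),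
      ∃ (A : FEt.Cat ((FSch.completionAlong X I).X (n + 1))) (b : B.left ⟶ A.left),
        IsPullback b B.hom A.hom ((FSch.completionAlong X I).ι n) := fun n B => by
    haveI := surjective_ι I n
    haveI := isClosedImmersion_ι I n
    exact exists_extension _ B
  choose nx b hb using hstep
  obtain ⟨A₀, b₀, h₀⟩ := exists_extension (LefEtaleLib.incl I 0) R
  let Rn : ∀ n, FEt.Cat ((FSch.completionAlong X I).X n) := fun n => Nat.rec A₀ nx n
  exact ⟨Rn, fun n => b n (Rn n), b₀, fun n => hb n (Rn n), h₀⟩

end Groth.Agent.LeffEtLib
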