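import Groth.Agent.LeffEtLib.Push
import Groth.Agent.LeffEtLib.Tower
import Groth.Agent.LeffEtLib.Unit
import Groth.Agent.LefEtaleLib.Completion
import Groth.Agent.LefPicLib.Leff
import Groth.Agent.FinLocFreeLib.Basic
import Groth.Prelude.Def_LefX

/-!
# The formal algebra of a tower of finite étale covers, read on a neighbourhood
-/

set_option autoImplicit false
set_option backward.isDefEq.respectTransparency false
set_option linter.style.haveILetI false
set_option maxHeartbeats 1000000

universe u

open CategoryTheory CategoryTheory.Limits AlgebraicGeometry TopologicalSpace Opposite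
open Scheme.Modules (pullbackPushforwardAdjunction pullbackComp pushforwardComp pushforwardCongr)
open Groth.Agent.PullbackMod

noncomputable section

namespace Groth.Agent.LeffEtLib

section General

variable {T T' U X : Scheme.{u}}

theorem homEquiv_pullPull (g : T ⟶ U) {ι : U ⟶ X} {c : T ⟶ X} (h : g ≫ ι = c) {F : X.Modules} {N : T.Modules}
    (x : (Scheme.Modules.pullback c).obj F ⟶ N) :
    (pullbackPushforwardAdjunction ι).homEquiv _ _
        ((pullbackPushforwardAdjunction g).homEquiv _ _ ((LefPicLib.pullPull h F).hom ≫ x)) ≫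
      (pushforwardComp g ι).hom.app N ≫ (pushforwardCongr h).hom.app N =
        (pullbackPushforwardAdjunction c).homEquiv _ _ x := by
  subst h
  have h0 : (pushforwardCongr (rfl : g ≫ ι = g ≫ ι)).hom.app N = 𝟙 _ :=
    Scheme.Modules.hom_ext _ _ fun V => by
      refine AddCommGrpCat.hom_ext (AddMonoidHom.ext fun s => ?_)
      simp
  rw [h0, Category.comp_id, ← LefEtaleLib.homEquiv_pullbackComp_inv]
  simp [LefPicLib.pullPull, Scheme.Modules.pullbackCongr]

theorem homEquiv_step (k : T ⟶ T') {g' : T' ⟶ X} {g : T ⟶ X} (h : k ≫ g' = g) {M : X.Modules} {P' : T'.Modules}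
    {P : T.Modules} (a : (Scheme.Modules.pullback g').obj M ⟶ P')
    (b : P' ⟶ (Scheme.Modules.pushforward k).obj P) :
    (pullbackPushforwardAdjunction g).homEquiv _ _ ((LefPicLib.pullPull h M).inv ≫
        (Scheme.Modules.pullback k).map a ≫ ((pullbackPushforwardAdjunction k).homEquiv _ _).symm b) =
      (pullbackPushforwardAdjunction g').homEquiv _ _ a ≫ (Scheme.Modules.pushforward g').map b ≫
        (pushforwardComp k g').hom.app P ≫ (pushforwardCongr h).hom.app P := by
  rw [← homEquiv_pullPull k h, Iso.hom_inv_id_assoc,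
    Adjunction.homEquiv_naturality_left (pullbackPushforwardAdjunction k), Equiv.apply_symm_apply,
    Adjunction.homEquiv_naturality_right (pullbackPushforwardAdjunction g'), Category.assoc]

theorem secMap_push {W S Y Z : Scheme.{u}} {q : W ⟶ Y} {q' : S ⟶ Y} (s : S ⟶ W) (h : s ≫ q = q') (ι : Y ⟶ Z)
    (h' : s ≫ q ≫ ι = q' ≫ ι) :
    (Scheme.Modules.pushforward ι).map (LefEtaleLib.secMap s h) ≫
        (pushforwardComp q' ι).hom.app (Coh.structureModule S) =
      (pushforwardComp q ι).hom.app (Coh.structureModule W) ≫ LefEtaleLib.secMap s h' := by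
  refine Scheme.Modules.hom_ext _ _ fun V => AddCommGrpCat.hom_ext (AddMonoidHom.ext fun b => ?_)
  show (LefEtaleLib.secMap s h).app (ι ⁻¹ᵁ V) b = (LefEtaleLib.secMap s h').app V b
  rw [LefEtaleLib.secMap_app, LefEtaleLib.secMap_app]
  rfl

theorem secMap_congr_target {W S Z : Scheme.{u}} {p : W ⟶ Z} {p' p'' : S ⟶ Z} (s : S ⟶ W) (h : s ≫ p = p')
    (e : p' = p'') :
    LefEtaleLib.secMap s h ≫ (pushforwardCongr e).hom.app (Coh.structureModule S) =
      LefEtaleLib.secMap s (h.trans e) := by
  subst e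
  refine Scheme.Modules.hom_ext _ _ fun V => AddCommGrpCat.hom_ext (AddMonoidHom.ext fun b => ?_)
  simp

theorem congr_secMap {W S Z : Scheme.{u}} {p p₀ : W ⟶ Z} {p' : S ⟶ Z} (e : p₀ = p) (s : S ⟶ W) (h : s ≫ p = p') :
    (pushforwardCongr e).hom.app (Coh.structureModule W) ≫ LefEtaleLib.secMap s h =
      LefEtaleLib.secMap s (by rw [e]; exact h) := by
  subst e
  refine Scheme.Modules.hom_ext _ _ fun V => AddCommGrpCat.hom_ext (AddMonoidHom.ext fun b => ?_)
  simp

theorem push_pushSquare {R R' Z Z' Y : Scheme.{u}} {j : R ⟶ R'} {π : R ⟶ Z} {π' : R' ⟶ Z'} {ι : Z ⟶ Z'}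
    (w : j ≫ π' = π ≫ ι) (g' : Z' ⟶ Y) {g : Z ⟶ Y} (hg : ι ≫ g' = g) (w' : j ≫ π' ≫ g' = π ≫ g) :
    (Scheme.Modules.pushforward g').map (pushSquare w) ≫
        (pushforwardComp ι g').hom.app _ ≫ (pushforwardCongr hg).hom.app _ ≫
        (pushforwardComp π g).hom.app (Coh.structureModule R) =
      (pushforwardComp π' g').hom.app (Coh.structureModule R') ≫ LefEtaleLib.secMap j w' := by
  subst hg
  refine Scheme.Modules.hom_ext _ _ fun V => AddCommGrpCat.hom_ext (AddMonoidHom.ext fun b => ?_)
  simp only [Scheme.Modules.Hom.comp_app, Scheme.Modules.pushforwardComp_hom_app_app, Category.id_comp]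
  show _ = (LefEtaleLib.secMap j w').app V b
  rw [LefEtaleLib.secMap_app]
  refine Eq.trans ?_ (pushSquare_app w (g' ⁻¹ᵁ V) b)
  simp

end General

variable {X : Scheme.{u}} {I : X.IdealSheafData} (Rn : ∀ n, FEt.Cat ((FSch.completionAlong X I).X n))
  (j : ∀ n, (Rn n).left ⟶ (Rn (n + 1)).left)
  (hj : ∀ n, IsPullback (j n) (Rn n).hom (Rn (n + 1)).hom ((FSch.completionAlong X I).ι n))

include hj in
theorem isIso_pullPush_tower (n : ℕ) : IsIso (pullPush (hj n).w) := by
  haveI : IsFinite (Rn (n + 1)).hom := (Rn (n + 1)).prop.1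
  haveI := isClosedImmersion_ι I n
  exact isIso_pullPush (hj n)

/-- The system of the direct images of the structure sheaves of a tower. -/
def towerSys : FSch.ModSys (FSch.completionAlong X I) where
  F n := (Scheme.Modules.pushforward (Rn n).hom).obj (Coh.structureModule (Rn n).left)
  e n := haveI := isIso_pullPush_tower Rn j hj n; asIso (pullPush (hj n).w)

theorem levelwiseFinLocFree_towerSys : LefX.LevelwiseFinLocFree (towerSys Rn j hj) := fun n => by
  haveI : IsFinite (Rn n).hom := (Rn n).prop.1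
  haveI : Etale (Rn n).hom := (Rn n).prop.2
  exact FinLocFreeLib.isFinLocFree_push (Rn n).hom ⟨inferInstance, inferInstance, inferInstance⟩

theorem towerSys_e (n : ℕ) : ((towerSys Rn j hj).e n).hom = pullPush (hj n).w := rfl

theorem pullPull_hom {A B C : Scheme.{u}} {a : A ⟶ B} {b : B ⟶ C} {c : A ⟶ C} (h : a ≫ b = c) (M : C.Modules) :
    ((pullbackComp a b).app M ≪≫ (Scheme.Modules.pullbackCongr h).app M).hom = (LefPicLib.pullPull h M).hom := rfl

theorem completionMod_e (F : X.Modules) (n : ℕ) :
    ((FSch.completionMod I F).e n).hom = (LefPicLib.pullPull (ι_completionToX I n) F).hom :=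
  pullPull_hom (a := Scheme.IdealSheafData.inclusion (FSch.pow_succ_le X I n))
    (Scheme.IdealSheafData.inclusion_subschemeι (FSch.pow_succ_le X I n)) F

theorem comm_completion {F : X.Modules} (Φ : FSch.completionMod I F ⟶ towerSys Rn j hj) (n : ℕ) :
    (LefPicLib.pullPull (ι_completionToX I n) F).inv ≫
      (Scheme.Modules.pullback ((FSch.completionAlong X I).ι n)).map (Φ.app (n + 1)) ≫ pullPush (hj n).w =
        Φ.app n := by
  rw [Iso.inv_comp_eq, ← completionMod_e, ← towerSys_e]
  exact Φ.comm n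

/-- The levels of an isomorphism from a completion to the system of a tower. -/
def levelIso {F : X.Modules} (Φ : FSch.completionMod I F ≅ towerSys Rn j hj) (n : ℕ) :
    (Scheme.Modules.pullback (FSch.completionToX X I n)).obj F ≅
      (Scheme.Modules.pushforward (Rn n).hom).obj (Coh.structureModule (Rn n).left) where
  hom := Φ.hom.app n
  inv := Φ.inv.app n
  hom_inv_id := congrArg (fun b => FSch.ModSys.Hom.app b n) Φ.hom_inv_id
  inv_hom_id := congrArg (fun b => FSch.ModSys.Hom.app b n) Φ.inv_hom_id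

theorem comm_levelIso {F : X.Modules} (Φ : FSch.completionMod I F ≅ towerSys Rn j hj) (n : ℕ) :
    (LefPicLib.pullPull (ι_completionToX I n) F).inv ≫
      (Scheme.Modules.pullback ((FSch.completionAlong X I).ι n)).map (levelIso Rn j hj Φ (n + 1)).hom ≫
        pullPush (hj n).w = (levelIso Rn j hj Φ n).hom :=
  comm_completion Rn j hj Φ.hom n

theorem homEquiv_levelIso {F : X.Modules} (Φ : FSch.completionMod I F ≅ towerSys Rn j hj) (n : ℕ) :
    (pullbackPushforwardAdjunction (FSch.completionToX X I n)).homEquiv _ _ (levelIso Rn j hj Φ n).hom =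
      (pullbackPushforwardAdjunction (FSch.completionToX X I (n + 1))).homEquiv _ _ (levelIso Rn j hj Φ (n + 1)).hom ≫
        (Scheme.Modules.pushforward (FSch.completionToX X I (n + 1))).map (pushSquare (hj n).w) ≫
        (pushforwardComp ((FSch.completionAlong X I).ι n) (FSch.completionToX X I (n + 1))).hom.app _ ≫
        (pushforwardCongr (ι_completionToX I n)).hom.app _ := by
  rw [← comm_levelIso Rn j hj Φ n]
  exact homEquiv_step _ (ι_completionToX I n) _ (pushSquare (hj n).w)

/-- The algebraization of the formal algebra of a tower, read on a neighbourhood. -/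
theorem exists_theta (U : X.Opens) {F : X.Modules} (Φ : FSch.completionMod I F ≅ towerSys Rn j hj)
    (hF : Coh.IsQCoh ((Scheme.Modules.pullback U.ι).obj F))
    (g : ∀ n, (FSch.completionAlong X I).X n ⟶ (U : Scheme.{u})) (hg : ∀ n, g n ≫ U.ι = FSch.completionToX X I n)
    (w : ∀ n, j n ≫ (Rn (n + 1)).hom ≫ g (n + 1) = (Rn n).hom ≫ g n) :
    ∃ θ : ∀ n, (Scheme.Modules.pullback U.ι).obj F ⟶
        (Scheme.Modules.pushforward ((Rn n).hom ≫ g n)).obj (Coh.structureModule (Rn n).left),
      (∀ n, θ (n + 1) ≫ LefEtaleLib.secMap (j n) (w n) = θ n) ∧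
      ∀ (n : ℕ) (x : (U : Scheme.{u})), Function.Surjective (stalkLin (θ n) x) ∧
        LinearMap.ker (stalkLin (θ n) x) = IntMult.stalkIdeal ((I.comap U.ι) ^ (n + 1)) x • ⊤ := by
  haveI := hF
  let c := FSch.completionToX X I
  let adjι := pullbackPushforwardAdjunction U.ι
  let Φn := levelIso Rn j hj Φ
  let a : ∀ n, (Scheme.Modules.pullback U.ι).obj F ⟶ (Scheme.Modules.pushforward (g n)).obj
      ((Scheme.Modules.pushforward (Rn n).hom).obj (Coh.structureModule (Rn n).left)) :=
    fun n => (pullbackPushforwardAdjunction (g n)).homEquiv _ _ (LefPicLib.pullPull (hg n) F ≪≫ Φn n).hom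
  let θ : ∀ n, (Scheme.Modules.pullback U.ι).obj F ⟶
      (Scheme.Modules.pushforward ((Rn n).hom ≫ g n)).obj (Coh.structureModule (Rn n).left) :=
    fun n => a n ≫ (pushforwardComp (Rn n).hom (g n)).hom.app _
  let S : ∀ n, F ⟶ (Scheme.Modules.pushforward ((Rn n).hom ≫ c n)).obj (Coh.structureModule (Rn n).left) :=
    fun n => (pullbackPushforwardAdjunction (c n)).homEquiv _ _ (Φn n).hom ≫ (pushforwardComp (Rn n).hom (c n)).hom.app _
  have hS : ∀ n, adjι.homEquiv _ _ (θ n) ≫ (pushforwardComp ((Rn n).hom ≫ g n) U.ι).hom.app _ ≫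
      (pushforwardCongr (by rw [Category.assoc, hg] : ((Rn n).hom ≫ g n) ≫ U.ι = (Rn n).hom ≫ c n)).hom.app _ =
        S n := fun n => by
    have h1 := homEquiv_pullPull (g n) (hg n) (Φn n).hom
    simp only [S, θ, a]
    rw [← h1]
    simp only [Adjunction.homEquiv_naturality_right, Iso.trans_hom, Category.assoc]
    refine congrArg (_ ≫ ·) ?_
    refine Scheme.Modules.hom_ext _ _ fun V => AddCommGrpCat.hom_ext (AddMonoidHom.ext fun b => ?_)
    simp
    rfl
  have hι : ∀ n, (FSch.completionAlong X I).ι n ≫ c (n + 1) = c n := ι_completionToX I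
  have hS' : ∀ n, S (n + 1) ≫ LefEtaleLib.secMap (j n)
      (show j n ≫ (Rn (n + 1)).hom ≫ c (n + 1) = (Rn n).hom ≫ c n by
        rw [← Category.assoc, (hj n).w, Category.assoc, hι]) = S n := fun n => by
    have h1 := homEquiv_levelIso Rn j hj Φ n
    simp only [S]
    rw [h1]
    simp only [Category.assoc]
    rw [push_pushSquare (hj n).w (c (n + 1)) (hι n)]
  refine ⟨θ, fun n => ?_, fun n x => ?_⟩
  · apply (adjι.homEquiv _ _).injective
    rw [← cancel_mono ((pushforwardComp ((Rn n).hom ≫ g n) U.ι).hom.app _ ≫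
      (pushforwardCongr (by rw [Category.assoc, hg] : ((Rn n).hom ≫ g n) ≫ U.ι = (Rn n).hom ≫ c n)).hom.app
        (Coh.structureModule (Rn n).left))]
    rw [hS n, Adjunction.homEquiv_naturality_right, Category.assoc,
      reassoc_of% (secMap_push (j n) (w n) U.ι (by rw [← Category.assoc, w n])),
      secMap_congr_target]
    refine Eq.trans ?_ (hS' n)
    rw [← hS (n + 1)]
    simp only [Category.assoc]
    exact congrArg (_ ≫ ·) (congrArg (_ ≫ ·) (congr_secMap _ _ _).symm)
  · haveI : IsClosedImmersion (g n ≫ U.ι) := (hg n).symm ▸ inferInstanceAs (IsClosedImmersion (I ^ (n + 1)).subschemeι)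
    haveI : IsClosedImmersion (g n) := IsClosedImmersion.of_comp (g n) U.ι
    obtain ⟨σ, hσ⟩ := LefPicLib.exists_from_thickening I U n (g n) (hg n)
    obtain ⟨t, ht⟩ := LefPicLib.exists_to_thickening I U n
    have htg : t ≫ g n = ((I.comap U.ι) ^ (n + 1)).subschemeι := by
      rw [← cancel_mono U.ι, Category.assoc, hg n]
      exact ht
    have hk : (g n).ker = (I.comap U.ι) ^ (n + 1) := by
      refine le_antisymm ?_ ?_
      · have := Scheme.Hom.le_ker_comp t (g n)
        rw [htg, Scheme.IdealSheafData.ker_subschemeι] at this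
        exact this
      · have := Scheme.Hom.le_ker_comp σ ((I.comap U.ι) ^ (n + 1)).subschemeι
        rw [hσ, Scheme.IdealSheafData.ker_subschemeι] at this
        exact this
    have h := stalk_homEquiv_iso (g n) _ (LefPicLib.pullPull (hg n) F ≪≫ Φn n) x
    rw [hk] at h
    have hb : Function.Bijective
        (stalkLin ((pushforwardComp (Rn n).hom (g n)).hom.app (Coh.structureModule (Rn n).left)) x) :=
      (isIso_iff_stalk _).1 inferInstance x
    rw [stalkLin_comp]
    refine ⟨hb.2.comp h.1, ?_⟩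
    rw [LinearMap.ker_comp, LinearMap.ker_eq_bot.2 hb.1, Submodule.comap_bot]
    exact h.2

end Groth.Agent.LeffEtLib
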