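import Groth.Agent.FEtLib.Normal
import Groth.Agent.S17758
import Groth.Agent.S1477
import Groth.Agent.RelAssLib.Generic
import Groth.Agent.NormalTensor.Henselian
import Groth.Agent.FiniteCompleteLib.Basic
import Groth.Agent.GrSegreLib.Dim
import Groth.Agent.HenLineLib.ZeroSection

/-!
# Linear sections of punctured spectra of complete normal domains

Components of finite etale covers meet the section in connected sets, by connectedness of punctured
linear sections of complete local domains.
-/

set_option autoImplicit false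
set_option backward.isDefEq.respectTransparency false
set_option linter.style.haveILetI false

universe u
open CategoryTheory CategoryTheory.Limits AlgebraicGeometry TopologicalSpace

noncomputable section

namespace Groth.Agent.LeffEtLib

variable {A : Type u} [CommRing A] [IsDomain A] [IsNoetherianRing A] [IsLocalRing A]
  [IsAdicComplete (IsLocalRing.maximalIdeal A) A]

omit [IsDomain A] in
/-- An irreducible set in a finite cover dominating the punctured spectrum meets a linear section in a
connected set. -/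
theorem isConnected_closure_inter_section {k : ℕ} (hdim : ((k + 2 : ℕ) : WithBot ℕ∞) ≤ ringKrullDim A)
    (f : Fin k → A) (hf : ∀ i, f i ∈ IsLocalRing.maximalIdeal A)
    {W : Scheme.{u}} (π : W ⟶ (FEt.puncturedSpec A : Scheme.{u})) [IsFinite π] (η : W)
    (hη : ((π ≫ (FEt.puncturedSpec A).ι) η : PrimeSpectrum A).asIdeal = ⊥) :
    _root_.IsConnected (closure ({η} : Set W) ∩
      {w | ∀ i, f i ∈ ((π ≫ (FEt.puncturedSpec A).ι) w : PrimeSpectrum A).asIdeal}) := by
  let U := FEt.puncturedSpec A
  let g := π ≫ U.ι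
  haveI : IsNoetherianRing (CommRingCat.of A) := ‹IsNoetherianRing A›
  haveI : LocallyOfFinitePresentation g := LocallyOfFinitePresentation.iff_locallyOfFiniteType.mpr inferInstance
  obtain ⟨T, j, p, hj, -, hp, -, hjp⟩ := S1477.result g
  let T' := Scheme.IdealSheafData.vanishingIdeal (Closeds.closure ({j η} : Set T))
  haveI : IsIntegral T'.subscheme := RelAssLib.isIntegral_vanishingIdeal_closure (j η)
  let q : T'.subscheme ⟶ Spec (CommRingCat.of A) := T'.subschemeι ≫ p
  have hT' : Set.range T'.subschemeι = closure ({j η} : Set T) := by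
    rw [Scheme.IdealSheafData.range_subschemeι, Scheme.IdealSheafData.coe_support_vanishingIdeal]
    rfl
  have hpj : ∀ w, p (j w) = g w := fun w => by rw [← Scheme.Hom.comp_apply, hjp]
  haveI : IsAffine T'.subscheme := isAffine_of_isAffineHom q
  let R := Γ(T'.subscheme, ⊤)
  obtain ⟨φ, hφ⟩ : ∃ φ : CommRingCat.of A ⟶ R, Spec.map φ = T'.subscheme.isoSpec.inv ≫ q :=
    ⟨_, Spec.map_preimage _⟩
  haveI : IsDomain R := inferInstance
  letI : Algebra A R := φ.hom.toAlgebra
  haveI hfin : Module.Finite A R := by
    have h : IsFinite (Spec.map φ) := by rw [hφ]; infer_instance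
    exact (IsFinite.SpecMap_iff φ).mp h
  haveI : HenselianLocalRing A := Hensel.henselianRing_maximalIdeal_iff.mp inferInstance
  haveI : IsLocalRing R := NormalTensor.isLocalRing_of_finite_domain A R
  haveI : IsNoetherianRing R := IsNoetherianRing.of_finite A R
  haveI : IsAdicComplete (IsLocalRing.maximalIdeal R) R := FiniteCompleteLib.isAdicComplete_maximalIdeal A R
  haveI : Algebra.IsIntegral A R := Algebra.IsIntegral.of_finite A R
  have hcomap : ∀ t : T'.subscheme, (q t : PrimeSpectrum A) =
      PrimeSpectrum.comap (algebraMap A R) (T'.subscheme.isoSpec.hom t) := fun t => by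
    show _ = Spec.map φ (T'.subscheme.isoSpec.hom t)
    rw [← Scheme.Hom.comp_apply, hφ, Iso.hom_inv_id_assoc]
  have hinj : Function.Injective (algebraMap A R) := by
    obtain ⟨t, ht⟩ : j η ∈ Set.range T'.subschemeι := hT'.symm.subset (subset_closure rfl)
    have h1 : (q t : PrimeSpectrum A).asIdeal = ⊥ := by
      rw [Scheme.Hom.comp_apply, ht, hpj]
      exact hη
    rw [hcomap t] at h1
    rw [injective_iff_map_eq_zero]
    intro a ha
    have h2 : a ∈ (T'.subscheme.isoSpec.hom t : PrimeSpectrum R).asIdeal.comap (algebraMap A R) := by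
      refine Ideal.mem_comap.2 ?_
      rw [ha]
      exact zero_mem _
    rwa [show (T'.subscheme.isoSpec.hom t : PrimeSpectrum R).asIdeal.comap (algebraMap A R) = ⊥ from h1,
      Ideal.mem_bot] at h2
  have hdimR : ringKrullDim R = ringKrullDim A :=
    (GrSegreLib.ringKrullDim_eq_of_integral_injective (algebraMap A R) hinj
      (Algebra.IsIntegral.isIntegral (R := A) (A := R))).symm
  obtain ⟨d, hd⟩ := RegLocal.exists_nat_ringKrullDim R
  have htd : k + 2 ≤ d := by
    rw [← hdimR, hd] at hdim
    exact_mod_cast hdim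
  have hmax : ∀ x : PrimeSpectrum R,
      (PrimeSpectrum.comap (algebraMap A R) x).asIdeal = IsLocalRing.maximalIdeal A ↔
        x.asIdeal = IsLocalRing.maximalIdeal R := by
    intro x
    constructor
    · intro h
      haveI : x.asIdeal.IsMaximal :=
        Ideal.isMaximal_of_isIntegral_of_isMaximal_comap x.asIdeal
          (show (x.asIdeal.comap (algebraMap A R)).IsMaximal by
            rw [show x.asIdeal.comap (algebraMap A R) = _ from h]; infer_instance)
      exact IsLocalRing.eq_maximalIdeal inferInstance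
    · intro h
      show x.asIdeal.comap (algebraMap A R) = _
      rw [h]
      exact IsLocalRing.eq_maximalIdeal (Ideal.isMaximal_comap_of_isIntegral_of_isMaximal _)
  let f' : Fin k → R := fun i => algebraMap A R (f i)
  have hItop : Ideal.span (Set.range f') ≠ ⊤ := by
    refine fun h => (IsLocalRing.maximalIdeal.isMaximal R).ne_top (top_le_iff.1 (h.ge.trans (Ideal.span_le.2 ?_)))
    rintro _ ⟨i, rfl⟩
    have := (hmax (IsLocalRing.closedPoint R)).2 rfl
    exact this.symm.le (hf i)
  have hconn := S17758.result R d hd k htd f' (Ideal.span (Set.range f')) hItop rfl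
  -- the cover is closed over the punctured spectrum
  let TV := p ⁻¹ᵁ U
  have hjV : Set.range j ⊆ Set.range TV.ι := by
    rintro _ ⟨w, rfl⟩
    rw [Scheme.Opens.range_ι]
    show p (j w) ∈ U
    rw [hpj]
    exact (π w).2
  let j' := IsOpenImmersion.lift TV.ι j hjV
  have hj' : j' ≫ TV.ι = j := IsOpenImmersion.lift_fac _ _ _
  haveI : IsFinite (j' ≫ p ∣_ U) := by
    have : j' ≫ p ∣_ U = π := by
      rw [← cancel_mono U.ι, Category.assoc, morphismRestrict_ι, ← Category.assoc, hj', hjp]
    rw [this]; infer_instance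
  haveI : IsFinite j' := IsFinite.of_comp j' (p ∣_ U)
  have key : ∀ t ∈ closure ({j η} : Set T), p t ∈ U → ∃ w ∈ closure ({η} : Set W), j w = t := by
    intro t ht htV
    let t' : TV.toScheme := ⟨t, htV⟩
    have hmem : (j' η : TV.toScheme) ⤳ t' := by
      rw [TV.ι.isEmbedding.isInducing.specializes_iff.symm]
      rw [← Scheme.Hom.comp_apply, hj']
      exact specializes_iff_mem_closure.2 ht
    have h1 : t' ∈ closure (j' '' ({η} : Set W)) := by
      rw [Set.image_singleton]
      exact hmem.mem_closure
    rw [j'.isClosedMap.closure_image_eq_of_continuous j'.continuous] at h1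
    obtain ⟨w, hw, hwt⟩ := h1
    refine ⟨w, hw, ?_⟩
    rw [← hj', Scheme.Hom.comp_apply, hwt]
    rfl
  let e := T'.subscheme.isoSpec
  have himg : j '' (closure ({η} : Set W) ∩ {w | ∀ i, f i ∈ (g w : PrimeSpectrum A).asIdeal}) =
      (fun x : PrimeSpectrum R => T'.subschemeι (e.inv x)) ''
        {x : PrimeSpectrum R | Ideal.span (Set.range f') ≤ x.asIdeal ∧ x.asIdeal ≠ IsLocalRing.maximalIdeal R} := by
    have hpx : ∀ x : PrimeSpectrum R, (p (T'.subschemeι (e.inv x)) : PrimeSpectrum A) =
        PrimeSpectrum.comap (algebraMap A R) x := fun x => by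
      rw [← Scheme.Hom.comp_apply, hcomap, ← Scheme.Hom.comp_apply, Iso.inv_hom_id]
      rfl
    ext t
    constructor
    · rintro ⟨w, ⟨hw, hwI⟩, rfl⟩
      have h := image_closure_subset_closure_image j.continuous ⟨_, hw, rfl⟩
      rw [Set.image_singleton, ← hT'] at h
      obtain ⟨t, ht⟩ := h
      refine ⟨e.hom t, ⟨?_, fun hm => ?_⟩, ?_⟩
      · rw [Ideal.span_le]
        rintro _ ⟨i, rfl⟩
        have h2 := hwI i
        rw [← hpj w, ← ht, ← Scheme.Hom.comp_apply, hcomap] at h2
        exact h2
      · have h2 : (g w : PrimeSpectrum A) ∈ U := (π w).2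
        rw [← hpj w, ← ht, ← Scheme.Hom.comp_apply, hcomap] at h2
        exact h2 (PrimeSpectrum.ext ((hmax _).2 hm))
      · show T'.subschemeι (e.inv (e.hom t)) = _
        rw [← Scheme.Hom.comp_apply e.hom e.inv, Iso.hom_inv_id]
        exact ht
    · rintro ⟨x, ⟨hxI, hxm⟩, rfl⟩
      have hV : p (T'.subschemeι (e.inv x)) ∈ U := by
        intro h
        exact hxm ((hmax x).1 (congrArg PrimeSpectrum.asIdeal ((hpx x).symm.trans h)))
      obtain ⟨w, hw, hwt⟩ := key _ (hT'.subset ⟨_, rfl⟩) hV
      refine ⟨w, ⟨hw, fun i => ?_⟩, hwt⟩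
      show f i ∈ (g w : PrimeSpectrum A).asIdeal
      rw [← hpj w, hwt, hpx]
      exact hxI (Ideal.subset_span ⟨i, rfl⟩)
  have h2 := hconn.image _ (T'.subschemeι.continuous.comp e.inv.continuous).continuousOn
  rw [show (⇑T'.subschemeι ∘ ⇑e.inv) = fun x : PrimeSpectrum R => T'.subschemeι (e.inv x) from rfl, ← himg] at h2
  exact ⟨Set.image_nonempty.1 h2.1, j.isOpenEmbedding.isInducing.isPreconnected_image.1 h2.2⟩

variable [IsIntegrallyClosed A]

/-- Restriction to a punctured linear section is fully faithful. -/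
theorem fullyFaithful_restrict_section {k : ℕ} (hdim : ((k + 2 : ℕ) : WithBot ℕ∞) ≤ ringKrullDim A)
    (f : Fin k → A) (hf : ∀ i, f i ∈ IsLocalRing.maximalIdeal A) {P : Scheme.{u}}
    (r : P ⟶ (FEt.puncturedSpec A : Scheme.{u})) [IsClosedImmersion r]
    (hr : Set.range r = {x | ∀ i, f i ∈ ((FEt.puncturedSpec A).ι x : PrimeSpectrum A).asIdeal}) :
    ConnectedSpace P ∧ (FEt.restrict r).Full ∧ (FEt.restrict r).Faithful := by
  let U := FEt.puncturedSpec A
  have hbot : (⟨⊥, Ideal.isPrime_bot⟩ : PrimeSpectrum A) ∈ U := by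
    intro h
    have h' : (⊥ : Ideal A) = IsLocalRing.maximalIdeal A := congrArg PrimeSpectrum.asIdeal h
    have hz : ringKrullDim A ≤ 0 := by
      rw [← IsLocalRing.maximalIdeal_height_eq_ringKrullDim, ← h', Ideal.height_bot]
      rfl
    exact absurd (hdim.trans hz) (not_le.2 (by exact_mod_cast Nat.succ_pos (k + 1)))
  haveI : IsIntegral (U : Scheme.{u}) := HenLineLib.isIntegral_open U hbot
  have hN : Pi1.IsNormalScheme (U : Scheme.{u}) := HenLineLib.isNormalScheme_open U
  have hgen : (U.ι (genericPoint (U : Scheme.{u})) : PrimeSpectrum A).asIdeal = ⊥ := by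
    let z : (U : Scheme.{u}) := ⟨_, hbot⟩
    have h1 : U.ι (genericPoint (U : Scheme.{u})) ⤳ U.ι z := (genericPoint_specializes z).map U.ι.continuous
    exact le_bot_iff.1 ((PrimeSpectrum.le_iff_specializes _ _).2 h1)
  have hone : _root_.IsConnected {x : (U : Scheme.{u}) | ∀ i, f i ∈ (U.ι x : PrimeSpectrum A).asIdeal} := by
    have h := isConnected_closure_inter_section hdim f hf (𝟙 (U : Scheme.{u})) (genericPoint (U : Scheme.{u}))
      (by rw [Category.id_comp]; exact hgen)
    rw [genericPoint_closure, Set.univ_inter] at h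
    rw [Category.id_comp] at h
    exact h
  rw [← hr, ← Set.image_univ] at hone
  haveI : ConnectedSpace P := connectedSpace_iff_univ.2
    ⟨Set.image_nonempty.1 hone.1, r.isClosedEmbedding.isInducing.isPreconnected_image.1 hone.2⟩
  have hm : FEtLib.MeetsClopens r := fun V hV ⟨v, hv⟩ => by
    obtain ⟨x⟩ := (inferInstance : Nonempty P)
    refine ⟨x, ?_⟩
    exact (genericPoint_specializes (r x)).mem_closed hV.1 ((genericPoint_specializes v).mem_open hV.2 hv)
  refine ⟨inferInstance, FEtLib.full r hm ?_, FEtLib.faithful r hm⟩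
  intro W C0 hC0
  haveI : IsFinite W.hom := W.prop.1
  let b := FEtLib.bcFst r W
  haveI : IsClosedImmersion b := MorphismProperty.pullback_fst (P := @IsClosedImmersion) _ _ inferInstance
  let S : Set W.left := {η | ∃ z ∈ C0, η ⤳ b z}
  refine ⟨_, FEtLib.isClopen_closures hN W S, ?_⟩
  ext z
  refine ⟨?_, fun hz => ?_⟩
  · rintro ⟨η, ⟨z', hz', hηz'⟩, hηz, he⟩
    have hconn : _root_.IsPreconnected (closure ({η} : Set W.left) ∩ Set.range b) := by
      have h := (isConnected_closure_inter_section hdim f hf W.hom η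
        (by
          rw [Scheme.Hom.comp_apply]
          exact (congrArg (fun z => (U.ι z : PrimeSpectrum A).asIdeal) he).trans hgen)).2
      have hb : Set.range b = {w | ∀ i, f i ∈ ((W.hom ≫ U.ι) w : PrimeSpectrum A).asIdeal} := by
        have h1 : Set.range b = W.hom ⁻¹' Set.range r := Scheme.Pullback.range_fst W.hom r
        rw [h1, hr]
        rfl
      rwa [← hb] at h
    have hpre : _root_.IsPreconnected (b ⁻¹' closure ({η} : Set W.left)) := by
      refine b.isClosedEmbedding.isInducing.isPreconnected_image.1 ?_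
      rwa [Set.image_preimage_eq_inter_range]
    exact hpre.subset_isClopen hC0 ⟨z', hηz'.mem_closure, hz'⟩ hηz.mem_closure
  · obtain ⟨η, hη, he⟩ := FEtLib.exists_specializes_over_genericPoint W (b z)
    exact ⟨η, ⟨z, hz, hη⟩, hη, he⟩

end Groth.Agent.LeffEtLib
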