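import Groth.Agent.LeffEtLib.Algz

/-!
# The effective Lefschetz condition extends finite étale covers to neighbourhoods
-/

set_option autoImplicit false
set_option backward.isDefEq.respectTransparency false
set_option linter.style.haveILetI false
set_option maxHeartbeats 1000000

universe u

open CategoryTheory CategoryTheory.Limits AlgebraicGeometry TopologicalSpace Opposite

noncomputable section

namespace Groth.Agent.LeffEtLib

variable {X : Scheme.{u}} (I : X.IdealSheafData)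

theorem nonempty_restrict_iso {Y Z : Scheme.{u}} (f : Y ⟶ Z) (A : FEt.Cat Z) (B : FEt.Cat Y) (a : B.left ⟶ A.left)
    (h : IsPullback a B.hom A.hom f) : Nonempty ((FEt.restrict f).obj A ≅ B) :=
  ⟨(MorphismProperty.Over.isoMk h.isoPullback h.isoPullback_hom_snd).symm⟩

/-- A neighbourhood extension from a levelwise algebraization. -/
theorem exists_nhd_extension_of_locFree (R : FEt.Cat I.subscheme) (U : X.Opens) (hU : (I.support : Set X) ⊆ (U : Set X))
    {W : Scheme.{u}} (p : W ⟶ (U : Scheme.{u})) (hp : Mor2.IsFinLocFree p)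
    (hc : ∀ i : I.subscheme ⟶ (U : Scheme.{u}), i ≫ U.ι = I.subschemeι → ∃ h : R.left ⟶ W, IsPullback h R.hom p i) :
    ∃ (U' : X.Opens) (R' : FEt.Cat (U' : Scheme.{u})), U' ≤ U ∧ (I.support : Set X) ⊆ (U' : Set X) ∧
      ∀ i : I.subscheme ⟶ (U' : Scheme.{u}), i ≫ U'.ι = I.subschemeι → Nonempty ((FEt.restrict i).obj R' ≅ R) := by
  obtain ⟨V, hV, hVe⟩ := exists_etale_extension I R U hU p hp hc
  obtain ⟨_, _, _⟩ := hp
  let e : (V : Scheme.{u}) ≅ ((U.ι ''ᵁ V : X.Opens) : Scheme.{u}) := U.ι.isoImage V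
  have he : e.inv ≫ V.ι ≫ U.ι = (U.ι ''ᵁ V).ι := U.ι.isoImage_inv_ι V
  haveI : IsFinite (p ∣_ V ≫ e.hom) := inferInstance
  haveI : Etale (p ∣_ V ≫ e.hom) := inferInstance
  let R' : FEt.Cat ((U.ι ''ᵁ V : X.Opens) : Scheme.{u}) :=
    MorphismProperty.Over.mk ⊤ (p ∣_ V ≫ e.hom) ⟨inferInstance, inferInstance⟩
  refine ⟨_, R', U.ι_image_le V, hV, fun i hi => ?_⟩
  have hi0 : (i ≫ e.inv ≫ V.ι) ≫ U.ι = I.subschemeι := by
    rw [Category.assoc, Category.assoc, he, hi]
  obtain ⟨h, hh⟩ := hc _ hi0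
  have hres : IsPullback (p ⁻¹ᵁ V).ι (p ∣_ V) p V.ι := (isPullback_morphismRestrict p V).flip
  let h' := hres.lift h (R.hom ≫ i ≫ e.inv) (hh.w.trans (by simp only [Category.assoc]))
  have h1 : IsPullback h' R.hom (p ∣_ V) (i ≫ e.inv) := by
    refine IsPullback.of_right ?_ (hres.lift_snd _ _ _) hres
    rw [Category.assoc]
    exact (hres.lift_fst _ _ _).symm ▸ hh
  refine nonempty_restrict_iso i R' R h' ?_
  refine h1.of_iso (Iso.refl _) (Iso.refl _) (Iso.refl _) e ?_ ?_ ?_ ?_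
  · simp
  · simp
  · simp [R']
  · simp

end Groth.Agent.LeffEtLib
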