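import Groth.Agent.LeffEtLib.Spec
import Groth.Agent.LefEtaleLib.Main

/-!
# The family of a finite locally free scheme
-/

set_option autoImplicit false
set_option backward.isDefEq.respectTransparency false
set_option linter.style.haveILetI false
set_option maxHeartbeats 1000000

universe u

open CategoryTheory CategoryTheory.Limits AlgebraicGeometry TopologicalSpace Opposite
open Groth.Agent.PullbackMod Groth.Agent.LefEtaleLib

noncomputable section

namespace Groth.Agent.LeffEtLib

variable {U : Scheme.{u}}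

theorem stalk_secMap_pullback {W P Z : Scheme.{u}} {π : W ⟶ U} {k : Z ⟶ U} [IsClosedImmersion k] {a : P ⟶ W}
    {b : P ⟶ Z} (hab : IsPullback a b π k) [IsAffineHom π] [Coh.IsQCoh (pushO π)] (x : U) :
    Function.Surjective (stalkLin (secMap a hab.w) x) ∧
      LinearMap.ker (stalkLin (secMap a hab.w) x) = IntMult.stalkIdeal k.ker x • ⊤ := by
  haveI := isIso_pullPush hab
  have h1 := stalk_homEquiv_iso k (pushO π) (asIso (pullPush hab.w)) x
  rw [asIso_hom, pullPush, Equiv.apply_symm_apply, pushSquare, stalkLin_comp] at h1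
  have hb : Function.Bijective
      (stalkLin ((Scheme.Modules.pushforwardComp b k).inv.app (Coh.structureModule P)) x) :=
    (isIso_iff_stalk _).1 inferInstance x
  obtain ⟨h2, h3⟩ := h1
  refine ⟨fun y => ?_, ?_⟩
  · obtain ⟨z, hz⟩ := h2 ((stalkLin ((Scheme.Modules.pushforwardComp b k).inv.app _) x) y)
    exact ⟨z, hb.1 hz⟩
  · rw [← h3, LinearMap.ker_comp_of_ker_eq_bot _ (LinearMap.ker_eq_bot.2 hb.1)]

theorem isIso_of_secMap {A B : Scheme.{u}} (c : A ⟶ B) {a : A ⟶ U} {b : B ⟶ U} [IsAffineHom a] [IsAffineHom b]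
    (hc : c ≫ b = a) [IsIso (secMap c hc)] : IsIso c := DefGlueLib.isIso_of_affine c fun z => by
  obtain ⟨_, ⟨V : U.Opens, hV, rfl⟩, hz, -⟩ :=
    U.isBasis_affineOpens.exists_subset_of_mem_open (a := b z) (Set.mem_univ _) isOpen_univ
  refine ⟨b ⁻¹ᵁ V, hz, hV.preimage _, ?_, ?_⟩
  · rw [← Scheme.Hom.comp_preimage, hc]
    exact hV.preimage _
  · have hb : Function.Bijective ((secMap c hc).app V) := ConcreteCategory.bijective_of_isIso _
    refine (ConcreteCategory.isIso_iff_bijective _).2 ?_
    have he : a ⁻¹ᵁ V = c ⁻¹ᵁ (b ⁻¹ᵁ V) := by rw [← Scheme.Hom.comp_preimage, hc]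
    refine (Function.Bijective.of_comp_iff'
      (ConcreteCategory.bijective_of_isIso (A.presheaf.map (eqToHom he).op)) _).1 ?_
    have key := fun s => secMap_app c hc V s
    exact ⟨fun s t h => hb.1 ((key s).trans (h.trans (key t).symm)),
      fun y => (hb.2 y).imp fun s hs => (key s).symm.trans hs⟩

/-- The transition maps of the thickenings of a scheme over the base. -/
abbrev thickTrans (J : U.IdealSheafData) {W : Scheme.{u}} (π : W ⟶ U) (n : ℕ) :
    pullback π (J ^ (n + 1)).subschemeι ⟶ pullback π (J ^ (n + 1 + 1)).subschemeι :=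
  pullback.map _ _ _ _ (𝟙 W) (Scheme.IdealSheafData.inclusion (Lef.pow_succ_le J n)) (𝟙 U) (by simp)
    (by rw [Category.comp_id, Scheme.IdealSheafData.inclusion_subschemeι])

/-- The family of the thickenings of a finite locally free scheme. -/
def Datum.ofScheme (J : U.IdealSheafData)
    (hP : ∀ D : U.Modules, FlatMod.IsFinLocFree D → Lef.HomToFormalBijective J D)
    {W : Scheme.{u}} (π : W ⟶ U) (hπ : Mor2.IsFinLocFree π) : Datum U where
  J := J
  R n := pullback π (J ^ (n + 1)).subschemeι
  q n := pullback.snd π (J ^ (n + 1)).subschemeι ≫ (J ^ (n + 1)).subschemeι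
  j n := thickTrans J π n
  w n := by
    rw [← Category.assoc, pullback.lift_snd, Category.assoc, Scheme.IdealSheafData.inclusion_subschemeι]
  E := pushO π
  hE := FinLocFreeLib.isFinLocFree_push π hπ
  θ n := secMap (pullback.fst π (J ^ (n + 1)).subschemeι) pullback.condition
  θ_comp n := by
    rw [secMap_comp]
    exact secMap_congr (by rw [pullback.lift_fst, Category.comp_id]) _ _
  θ_stalk n x := by
    haveI : IsFinite π := hπ.1
    haveI := (PullbackMod.isQCoh_and_isFP_of_isFinLocFree _ (FinLocFreeLib.isFinLocFree_push π hπ)).1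
    have h := stalk_secMap_pullback (IsPullback.of_hasPullback π (J ^ (n + 1)).subschemeι) x
    rwa [Scheme.IdealSheafData.ker_subschemeι] at h
  hP := hP

end Groth.Agent.LeffEtLib
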